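import Cfsg.Agent.Lib.Spec.PSLTwoSpectrum
import Cfsg.Agent.Lib.SimpleAbTwo.Cases
import Cfsg.Agent.Lib.Walter3.CentClause
import Cfsg.Agent.Lib.GW.Main
import Cfsg.Agent.S1011

/-!
# Simple groups with small or abelian Sylow two-subgroups have a cyclic Sylow subgroup
-/

set_option autoImplicit false
set_option linter.unusedSectionVars false
set_option linter.style.haveILetI false

namespace Cfsg.Lib.Char.RamifiedSolvable

open Cfsg Cfsg.Lib

universe u v

/-- Some element of `G` generates the whole `s`-part for a prime `s` dividing its order. -/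
def HasCyclicSylow (G : Type u) [Group G] : Prop :=
  ∃ (s : ℕ) (x : G) (m : ℕ), s.Prime ∧ s ∣ orderOf x ∧ Nat.card G = orderOf x * m ∧ ¬ s ∣ m

theorem HasCyclicSylow.congr {G : Type u} [Group G] {K : Type v} [Group K] (e : G ≃* K)
    (h : HasCyclicSylow K) : HasCyclicSylow G := by
  obtain ⟨s, x, m, hs, hx, hm, hsm⟩ := h
  exact ⟨s, e.symm x, m, hs, by rwa [MulEquiv.orderOf_eq],
    by rw [Nat.card_congr e.toEquiv, MulEquiv.orderOf_eq, hm], hsm⟩

theorem HasCyclicSylow.sylow {G : Type u} [Group G] [Finite G] (h : HasCyclicSylow G) :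
    ∃ (s : ℕ) (S : Sylow s G), s.Prime ∧ IsCyclic (S : Subgroup G) ∧ (S : Subgroup G) ≠ ⊥ := by
  obtain ⟨s, x, m, hs, hx, hm, hsm⟩ := h
  haveI := Fact.mk hs
  obtain ⟨k, r, hr, hkr⟩ := Nat.exists_eq_pow_mul_and_not_dvd (orderOf_pos x).ne' s hs.ne_one
  have hy : orderOf (x ^ r) = s ^ k := by
    have hr0 : r ≠ 0 := fun h => hr (h ▸ dvd_zero s)
    rw [orderOf_pow_of_dvd hr0 (hkr ▸ dvd_mul_left r _), hkr,
      Nat.mul_div_cancel _ (Nat.pos_of_ne_zero hr0)]
  have hZp : IsPGroup s (Subgroup.zpowers (x ^ r)) := IsPGroup.of_card (by rw [Nat.card_zpowers, hy])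
  have hidx : ¬ s ∣ (Subgroup.zpowers (x ^ r)).index := by
    have h1 := (Subgroup.zpowers (x ^ r)).card_mul_index
    rw [Nat.card_zpowers, hy, hm, hkr, mul_assoc] at h1
    rw [Nat.eq_of_mul_eq_mul_left (pow_pos hs.pos k) h1]
    exact hs.not_dvd_mul hr hsm
  refine ⟨s, hZp.toSylow hidx, hs, ?_, ?_⟩
  · show IsCyclic (Subgroup.zpowers (x ^ r))
    infer_instance
  · show Subgroup.zpowers (x ^ r) ≠ ⊥
    intro h
    rw [Subgroup.zpowers_eq_bot] at h
    rw [h, orderOf_one] at hy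
    rw [← hy, one_mul] at hkr
    exact hr (hkr ▸ hx)

theorem hasCyclicSylow_of_prime {G : Type u} [Group G] [Finite G] {s : ℕ} (hs : s.Prime) (m : ℕ)
    (h : Nat.card G = s * m) (hm : ¬ s ∣ m) : HasCyclicSylow G := by
  haveI := Fact.mk hs
  obtain ⟨x, hx⟩ := exists_prime_orderOf_dvd_card' (G := G) s (h ▸ dvd_mul_right s m)
  exact ⟨s, x, m, hs, hx.symm ▸ dvd_rfl, hx.symm ▸ h, hm⟩

section PSL

variable {F : Type} [Field F] [Fintype F]

theorem exists_psl_elem (h4 : 4 ≤ Fintype.card F) {N : ℕ}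
    (hN : N ∣ (Fintype.card F - 1) / Nat.gcd 2 (Fintype.card F - 1) ∨
      N ∣ (Fintype.card F + 1) / Nat.gcd 2 (Fintype.card F - 1)) :
    ∃ x : Matrix.ProjectiveSpecialLinearGroup (Fin 2) F, orderOf x = N := by
  obtain ⟨p, hp⟩ := CharP.exists F
  haveI := hp
  haveI : Fact p.Prime := ⟨CharP.char_is_prime F p⟩
  have : N ∈ Set.range (orderOf : Matrix.ProjectiveSpecialLinearGroup (Fin 2) F → ℕ) := by
    rw [Spec.psl_two_spectrum p h4]
    exact Or.inr hN
  exact this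

theorem card_psl_odd {k : ℕ} (hk : Fintype.card F = 2 * k + 1) :
    Nat.card (Matrix.ProjectiveSpecialLinearGroup (Fin 2) F) = (2 * k + 1) * k * (2 * (k + 1)) := by
  have h := Cfsg.Lib.Linear.Two.card_PSL_two (F := F)
  rw [hk, show 2 * k + 1 - 1 = 2 * k from rfl, Nat.gcd_mul_right_right] at h
  have e : (2 * k + 1) ^ 2 - 1 = 2 * (k * (2 * (k + 1))) := by
    have : (2 * k + 1) ^ 2 = 2 * (k * (2 * (k + 1))) + 1 := by ring
    omega
  rw [e] at h
  apply Nat.eq_of_mul_eq_mul_left two_pos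
  rw [h]; ring

theorem hasCyclicSylow_psl (h4 : 4 ≤ Fintype.card F) :
    HasCyclicSylow (Matrix.ProjectiveSpecialLinearGroup (Fin 2) F) := by
  rcases Nat.even_or_odd' (Fintype.card F) with ⟨k, hk | hk⟩
  · -- even
    have hg : Nat.gcd 2 (Fintype.card F - 1) = 1 := by
      rw [← Nat.coprime_iff_gcd_eq_one, Nat.coprime_two_left]
      exact ⟨k - 1, by omega⟩
    obtain ⟨s, hs, hsd⟩ := Nat.exists_prime_and_dvd (show Fintype.card F + 1 ≠ 1 by omega)
    obtain ⟨x, hx⟩ := exists_psl_elem h4 (N := Fintype.card F + 1) (Or.inr (by rw [hg, Nat.div_one]))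
    refine ⟨s, x, Fintype.card F * (Fintype.card F - 1), hs, hx.symm ▸ hsd, ?_, ?_⟩
    · have h := Cfsg.Lib.Linear.Two.card_PSL_two (F := F)
      rw [hg, one_mul] at h
      rw [h, hx, show Fintype.card F ^ 2 - 1 = (Fintype.card F + 1) * (Fintype.card F - 1) by
        rw [← Nat.sq_sub_sq, one_pow]]
      ring
    · intro h
      rcases hs.dvd_mul.1 h with h | h
      · exact hs.not_dvd_one ((Nat.dvd_add_right h).1 hsd)
      · have h2 := Nat.dvd_sub hsd h
        rw [show Fintype.card F + 1 - (Fintype.card F - 1) = 2 by omega] at h2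
        rw [(Nat.prime_dvd_prime_iff_eq hs Nat.prime_two).1 h2, hk] at hsd
        omega
  · -- odd
    have hcard := card_psl_odd hk
    have hg : Nat.gcd 2 (Fintype.card F - 1) = 2 := by
      rw [hk, show 2 * k + 1 - 1 = 2 * k from rfl, Nat.gcd_mul_right_right]
    have hk2 : 2 ≤ k := by omega
    rcases Nat.even_or_odd k with hke | hko
    · obtain ⟨s, hs, hsd⟩ := Nat.exists_prime_and_dvd (show k + 1 ≠ 1 by omega)
      obtain ⟨x, hx⟩ := exists_psl_elem h4 (N := k + 1) (Or.inr (by rw [hg, hk, show (2 * k + 1 + 1) / 2 = k + 1 by omega]))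
      refine ⟨s, x, 2 * ((2 * k + 1) * k), hs, hx.symm ▸ hsd, by rw [hcard, hx]; ring, ?_⟩
      intro h
      rcases hs.dvd_mul.1 h with h | h
      · rw [(Nat.prime_dvd_prime_iff_eq hs Nat.prime_two).1 h] at hsd
        obtain ⟨j, rfl⟩ := hke
        omega
      rcases hs.dvd_mul.1 h with h | h
      · have h2 := Nat.dvd_sub (hsd.mul_left 2) h
        rw [show 2 * (k + 1) - (2 * k + 1) = 1 by omega] at h2
        exact hs.not_dvd_one h2
      · exact hs.not_dvd_one ((Nat.dvd_add_right h).1 hsd)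
    · obtain ⟨s, hs, hsd⟩ := Nat.exists_prime_and_dvd (show k ≠ 1 by omega)
      obtain ⟨x, hx⟩ := exists_psl_elem h4 (N := k) (Or.inl (by rw [hg, hk, show (2 * k + 1 - 1) / 2 = k by omega]))
      refine ⟨s, x, 2 * ((2 * k + 1) * (k + 1)), hs, hx.symm ▸ hsd, by rw [hcard, hx]; ring, ?_⟩
      intro h
      rcases hs.dvd_mul.1 h with h | h
      · rw [(Nat.prime_dvd_prime_iff_eq hs Nat.prime_two).1 h] at hsd
        obtain ⟨j, rfl⟩ := hko
        omega
      rcases hs.dvd_mul.1 h with h | h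
      · exact hs.not_dvd_one ((Nat.dvd_add_right (hsd.mul_left 2)).1 h)
      · exact hs.not_dvd_one ((Nat.dvd_add_right hsd).1 h)

end PSL

variable {G : Type u} [Group G] [Finite G] [IsSimpleGroup G]

theorem hasCyclicSylow_of_abelian (hG : ¬ IsMulCommutative G) (S : Sylow 2 G)
    (hS : IsMulCommutative (S : Subgroup G)) : HasCyclicSylow G := by
  rcases SimpleAbTwo.cases hG S hS (Walter3.centClause G hG) with
    ⟨F, i, j, hF, ⟨e⟩⟩ | ⟨t, F, i, j, -, -, -, ⟨e⟩, hord⟩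
  · refine HasCyclicSylow.congr e (hasCyclicSylow_psl ?_)
    rcases hF with ⟨a, ha, hF⟩ | ⟨-, h5⟩
    · rw [hF]; exact le_trans (by norm_num) (Nat.pow_le_pow_right two_pos ha)
    · omega
  rcases hord with ⟨m, hm, hq, hcard⟩ | ⟨-, hJ⟩
  swap
  · exact hasCyclicSylow_of_prime Nat.prime_three 58520 (by rw [hJ.2]) (by norm_num)
  -- Ree orders
  have h27 : 27 ≤ Fintype.card F := hq ▸ le_trans (by norm_num)
    (Nat.pow_le_pow_right (by norm_num) (show 3 ≤ 2 * m + 1 by omega))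
  obtain ⟨k, hk⟩ : ∃ k, 3 ^ (2 * m + 1) = 2 * k + 1 :=
    (Nat.odd_iff.2 (by simp [Nat.pow_mod]) : Odd (3 ^ (2 * m + 1)))
  have hg : Nat.gcd 2 (Fintype.card F - 1) = 2 := by
    rw [hq, hk, show 2 * k + 1 - 1 = 2 * k from rfl, Nat.gcd_mul_right_right]
  have hkodd : Odd k := by
    have h4 : 3 ^ (2 * m + 1) % 4 = 3 := by
      rw [pow_succ, pow_mul, Nat.mul_mod, Nat.pow_mod]
      simp
    rw [Nat.odd_iff]
    omega
  obtain ⟨s, hs, hsd⟩ := Nat.exists_prime_and_dvd (show k ≠ 1 by omega)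
  obtain ⟨y, hy⟩ := exists_psl_elem (F := F) (by omega) (N := k)
    (Or.inl (by rw [hg, hq, hk, show (2 * k + 1 - 1) / 2 = k by omega]))
  let x : G := ((e.symm (1, y) : Subgroup.centralizer ({t} : Set G)) : G)
  have hx : orderOf x = k := by
    show orderOf ((e.symm (1, y) : Subgroup.centralizer ({t} : Set G)) : G) = k
    rw [Subgroup.orderOf_coe, MulEquiv.orderOf_eq, Prod.orderOf, orderOf_one, Nat.lcm_one_left, hy]
  refine ⟨s, x, 2 * ((2 * k + 1) ^ 3 * ((2 * k + 1) ^ 3 + 1)), hs, hx.symm ▸ hsd, ?_, ?_⟩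
  · rw [hcard, hk, hx, show 2 * k + 1 - 1 = 2 * k from rfl]
    ring
  · have hs2 : s ≠ 2 := by
      rintro rfl
      exact Nat.not_even_iff_odd.2 hkodd (even_iff_two_dvd.2 hsd)
    intro h
    rcases hs.dvd_mul.1 h with h | h
    · exact hs2 ((Nat.prime_dvd_prime_iff_eq hs Nat.prime_two).1 h)
    rcases hs.dvd_mul.1 h with h | h
    · exact hs.not_dvd_one ((Nat.dvd_add_right (hsd.mul_left 2)).1 (hs.dvd_of_dvd_pow h))
    · have h1 : (2 * k + 1) ^ 3 + 1 = k * (8 * k * k + 12 * k + 6) + 2 := by ring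
      rw [h1, Nat.dvd_add_right (hsd.mul_right _)] at h
      exact hs2 ((Nat.prime_dvd_prime_iff_eq hs Nat.prime_two).1 h)

theorem hasCyclicSylow_of_eight (hG : ¬ IsMulCommutative G) (S : Sylow 2 G)
    (h8 : Nat.card (S : Subgroup G) = 8) (hS : ¬ IsMulCommutative (S : Subgroup G)) :
    HasCyclicSylow G := by
  haveI : Fact (Nat.Prime 2) := ⟨Nat.prime_two⟩
  obtain ⟨z, hz⟩ := exists_prime_orderOf_dvd_card' (G := (S : Subgroup G)) 2 (h8 ▸ by norm_num)
  obtain ⟨w, hw, hwz⟩ : ∃ w : (S : Subgroup G), orderOf w = 2 ∧ z ≠ w := by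
    by_contra hcon
    push Not at hcon
    have hzG : orderOf (z : G) = 2 := by rw [Subgroup.orderOf_coe, hz]
    refine Walter3.false_of_unique hG S hzG z.2 fun x hx hx2 => ?_
    have := hcon ⟨x, hx⟩ (by rw [Subgroup.orderOf_mk, hx2])
    rw [this]
  obtain ⟨e⟩ := Cfsg.Agent.S1011.dihedral_of_card_eight h8 hS hz hw hwz
  rcases GW.simpleGW G hG (fun U => ⟨4, by norm_num, ⟨(U.equiv S).trans e⟩⟩) with
    ⟨F, i, j, -, h3, ⟨f⟩⟩ | hA
  · exact HasCyclicSylow.congr f (hasCyclicSylow_psl h3)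
  · refine HasCyclicSylow.congr hA.some (hasCyclicSylow_of_prime (s := 5) (by norm_num) 504 ?_ (by norm_num))
    have h := two_mul_nat_card_alternatingGroup (α := Fin 7)
    rw [Nat.card_perm, Nat.card_fin, show Nat.factorial 7 = 5040 from rfl] at h
    omega

end Cfsg.Lib.Char.RamifiedSolvable
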