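import Cfsg.Agent.Lib.Char.Linear

/-!
# Small facts on the dual of an abelian normal subgroup
-/

set_option autoImplicit false
set_option linter.unusedSectionVars false

namespace Cfsg.Lib.Char.RamifiedSolvable

open Cfsg Cfsg.Lib.Char

universe u

section Dual

variable {A : Type u} [CommGroup A] [Finite A]

theorem exists_apply_ne_one {a : A} (ha : a ≠ 1) : ∃ l : A →* ℂˣ, l a ≠ 1 := by
  haveI : NeZero (Monoid.exponent A) := ⟨Monoid.exponent_ne_zero_of_finite⟩
  exact CommGroup.exists_apply_ne_one_of_hasEnoughRootsOfUnity A ℂ ha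

theorem sum_dual [Fintype (A →* ℂˣ)] {a : A} (ha : a ≠ 1) :
    ∑ l : A →* ℂˣ, ((l a : ℂˣ) : ℂ) = 0 := by
  obtain ⟨l₀, hl₀⟩ := exists_apply_ne_one ha
  have h : ((l₀ a : ℂˣ) : ℂ) * ∑ l : A →* ℂˣ, ((l a : ℂˣ) : ℂ) =
      ∑ l : A →* ℂˣ, ((l a : ℂˣ) : ℂ) := by
    rw [Finset.mul_sum]
    exact Fintype.sum_equiv (Equiv.mulLeft l₀) _ _ fun l => by simp
  by_contra hne
  exact hl₀ (Units.ext ((mul_eq_right₀ hne).1 h))

theorem eq_top_of_separates {S : Subgroup (A →* ℂˣ)} (h : ∀ a : A, (∀ l ∈ S, l a = 1) → a = 1) :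
    S = ⊤ := by
  haveI : Finite (A →* ℂˣ) := Nat.finite_of_card_ne_zero (by
    rw [card_monoidHom_units]; exact Nat.card_pos.ne')
  let ev : A →* (S →* ℂˣ) :=
    { toFun := fun a =>
        { toFun := fun l => (l : A →* ℂˣ) a
          map_one' := rfl
          map_mul' := fun _ _ => rfl }
      map_one' := MonoidHom.ext fun l => map_one (l : A →* ℂˣ)
      map_mul' := fun a b => MonoidHom.ext fun l => map_mul (l : A →* ℂˣ) a b }
  have hinj : Function.Injective ev := by
    rw [← MonoidHom.ker_eq_bot_iff, eq_bot_iff]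
    exact fun a ha => h a fun l hl => DFunLike.congr_fun ha ⟨l, hl⟩
  haveI : Finite (S →* ℂˣ) := Nat.finite_of_card_ne_zero (by
    rw [card_monoidHom_units]; exact Nat.card_pos.ne')
  refine S.eq_top_of_le_card ?_
  rw [card_monoidHom_units, ← card_monoidHom_units S]
  exact Nat.card_le_card_of_injective _ hinj

end Dual

/-- A prime-power group of order at most `r ^ 2` has no group of automorphisms of its own order. -/
theorem not_dvd_card_mulAut {L : Type u} [Group L] [Finite L] {r l : ℕ} [Fact r.Prime]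
    (hL : Nat.card L = r ^ l) (hl1 : 1 ≤ l) (hl2 : l ≤ 2) (A : Subgroup (MulAut L)) :
    ¬ r ^ l ∣ Nat.card A := by
  classical
  intro hdvd
  obtain ⟨Q, hQ⟩ := Sylow.exists_subgroup_card_pow_prime r hdvd
  letI : MulAction Q L :=
    { smul := fun q x => ((q : A) : MulAut L) x
      one_smul := fun x => rfl
      mul_smul := fun q q' x => rfl }
  have hQp : IsPGroup r Q := IsPGroup.of_card hQ
  have hr : r ∣ Nat.card L := hL ▸ dvd_pow_self r (by omega)
  obtain ⟨m, hm, hm1⟩ := hQp.exists_fixed_point_of_prime_dvd_card_of_fixed_point L hr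
    (a := (1 : L)) (fun q => map_one ((q : A) : MulAut L))
  set M := Subgroup.zpowers m
  have hMne : M ≠ ⊥ := by
    intro h
    exact hm1 (Subgroup.zpowers_eq_bot.1 h).symm
  have hfixM : ∀ q : Q, ∀ x ∈ M, ((q : A) : MulAut L) x = x := by
    rintro q _ ⟨i, rfl⟩
    simp only [map_zpow]
    exact congrArg (· ^ i) (hm q)
  by_cases hMtop : M = ⊤
  · have h1 : ∀ q : Q, q = 1 := fun q => Subtype.ext (Subtype.ext (MulEquiv.ext fun x =>
      hfixM q x (hMtop ▸ Subgroup.mem_top x)))
    haveI : Subsingleton Q := ⟨fun a b => (h1 a).trans (h1 b).symm⟩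
    rw [Nat.card_unique, eq_comm, pow_eq_one_iff_left (by omega)] at hQ
    exact (Fact.out : r.Prime).ne_one hQ
  obtain ⟨x, hx⟩ : ∃ x : L, x ∉ M := by
    by_contra h; push Not at h; exact hMtop (eq_top_iff.2 fun x _ => h x)
  have hgen : Subgroup.closure ({m, x} : Set L) = ⊤ := by
    set K := Subgroup.closure ({m, x} : Set L)
    have hMK : M ≤ K := Subgroup.zpowers_le.2 (Subgroup.subset_closure (Set.mem_insert _ _))
    have hlt : M < K := lt_of_le_of_ne hMK fun h =>
      hx (h ▸ Subgroup.subset_closure (Set.mem_insert_of_mem _ rfl))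
    obtain ⟨j, hj, hK⟩ := (Nat.dvd_prime_pow Fact.out).1 (hL ▸ K.card_subgroup_dvd_card)
    obtain ⟨i, hi, hM⟩ := (Nat.dvd_prime_pow Fact.out).1 (hL ▸ M.card_subgroup_dvd_card)
    have hi0 : i ≠ 0 := fun h => hMne (Subgroup.eq_bot_of_card_eq _ (by rw [hM, h, pow_zero]))
    have hij : i < j := by
      have := Set.ncard_lt_ncard (SetLike.coe_ssubset_coe.2 hlt) (Set.toFinite _)
      rw [← Nat.card_coe_set_eq, ← Nat.card_coe_set_eq] at this
      rw [show Nat.card (M : Set L) = r ^ i from hM, show Nat.card (K : Set L) = r ^ j from hK] at this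
      exact (Nat.pow_lt_pow_iff_right (Fact.out : r.Prime).one_lt).1 this
    exact K.eq_top_of_card_eq (by rw [hK, hL, show j = l by omega])
  have hinj : Function.Injective fun q : Q => (⟨((q : A) : MulAut L) x, fun h => hx (by
      have e : ((q : A) : MulAut L) (((q : A) : MulAut L) x) = ((q : A) : MulAut L) x := hfixM q _ h
      rwa [((q : A) : MulAut L).injective e] at h)⟩ : {y : L // y ∉ M}) := by
    intro q q' h
    have he : ((q : A) : MulAut L) x = ((q' : A) : MulAut L) x := congrArg Subtype.val h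
    refine Subtype.ext (Subtype.ext (MulEquiv.toMonoidHom_injective ?_))
    refine MonoidHom.eq_of_eqOn_dense hgen ?_
    rintro y (rfl | rfl)
    · exact (hm q).trans (hm q').symm
    · exact he
  have h2 := Nat.card_le_card_of_injective _ hinj
  have h3 : Nat.card {y : L // y ∉ M} < Nat.card L :=
    Finite.card_subtype_lt (x := (1 : L)) (fun h => h (one_mem M))
  rw [hQ] at h2
  omega

end Cfsg.Lib.Char.RamifiedSolvable
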