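import Cfsg.Agent.Lib.Char.FullyRamified
import Cfsg.Agent.Lib.Char.Gallagher

/-!
# Fully ramified characters: every nontrivial element moves an extension

If `x` is outside `Z`, some element centralizing `x` modulo `Z` moves an extension of `θ` to
`Z⟨x⟩`.
-/

set_option autoImplicit false
set_option linter.unusedSectionVars false
set_option linter.style.haveILetI false
set_option maxHeartbeats 1600000

namespace Cfsg.Lib.Char.RamifiedSolvable

open Cfsg Cfsg.Lib.Char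
open scoped ComplexConjugate

universe u

variable {H : Type u} [Group H] [Fintype H] {Z : Subgroup H} [hZ : Z.Normal] [Fintype Z]
  {χ : H → ℂ} (hχ : IsIrrCharacter H χ) {θ : Z → ℂ} (hθ : IsIrrCharacter Z θ) {e : ℕ}
  (he : e ^ 2 = Z.index) (hres : ∀ z : Z, χ z = (e : ℂ) * θ z)

/-- The preimage of the cyclic subgroup generated by the image of `x`. -/
def cyc (Z : Subgroup H) [Z.Normal] (x : H) : Subgroup H :=
  (Subgroup.zpowers (x : H ⧸ Z)).comap (QuotientGroup.mk' Z)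

theorem le_cyc (x : H) : Z ≤ cyc Z x := fun z hz => by
  show (z : H ⧸ Z) ∈ Subgroup.zpowers (x : H ⧸ Z)
  rw [(QuotientGroup.eq_one_iff z).2 hz]
  exact one_mem _

theorem mem_cyc_self (x : H) : x ∈ cyc Z x := Subgroup.mem_zpowers (x : H ⧸ Z)

theorem commute_of_mem_cyc {x d : H} (hd : d ∈ cyc Z x) : Commute (d : H ⧸ Z) (x : H ⧸ Z) := by
  obtain ⟨i, hi⟩ := (show (d : H ⧸ Z) ∈ Subgroup.zpowers (x : H ⧸ Z) from hd)
  rw [← hi]
  exact (Commute.refl _).zpow_left i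

theorem conj_mk_of_commute {x g d : H} (hg : Commute (g : H ⧸ Z) (x : H ⧸ Z))
    (hd : d ∈ cyc Z x) : ((g * d * g⁻¹ : H) : H ⧸ Z) = (d : H ⧸ Z) := by
  obtain ⟨i, hi⟩ := (show (d : H ⧸ Z) ∈ Subgroup.zpowers (x : H ⧸ Z) from hd)
  rw [QuotientGroup.mk_mul, QuotientGroup.mk_mul, QuotientGroup.mk_inv, ← hi,
    (hg.zpow_right i).eq, mul_inv_cancel_right]

theorem conj_mem_cyc {x g d : H} (hg : Commute (g : H ⧸ Z) (x : H ⧸ Z))
    (hd : d ∈ cyc Z x) : g * d * g⁻¹ ∈ cyc Z x := by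
  show ((g * d * g⁻¹ : H) : H ⧸ Z) ∈ Subgroup.zpowers (x : H ⧸ Z)
  rw [conj_mk_of_commute hg hd]
  exact hd

/-- The elements fixing a function on a subgroup. -/
def fixSub (D : Subgroup H) (φ : D → ℂ) : Subgroup H where
  carrier := {g | ∀ d : D, ∃ hm : g * (d : H) * g⁻¹ ∈ D, φ ⟨_, hm⟩ = φ d}
  one_mem' d := ⟨by simp, congrArg φ (Subtype.ext (by simp))⟩
  mul_mem' := by
    intro a b ha hb d
    obtain ⟨hm, hφ⟩ := hb d
    obtain ⟨hm', hφ'⟩ := ha ⟨_, hm⟩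
    refine ⟨by simpa [mul_assoc] using hm', ?_⟩
    rw [← hφ, ← hφ']
    exact congrArg φ (Subtype.ext (by simp [mul_assoc]))
  inv_mem' := by
    intro a ha d
    have hinj : Function.Injective fun d : D => (⟨_, (ha d).1⟩ : D) := fun d d' h => by
      have := congrArg Subtype.val h
      exact Subtype.ext (by simpa using this)
    obtain ⟨d', hd'⟩ := (Finite.injective_iff_surjective.1 hinj) d
    have hval : a * (d' : H) * a⁻¹ = d := congrArg Subtype.val hd'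
    have heq : a⁻¹ * (d : H) * a⁻¹⁻¹ = d' := by rw [← hval]; simp [mul_assoc]
    refine ⟨by rw [heq]; exact d'.2, ?_⟩
    refine (congrArg φ (Subtype.ext heq)).trans ?_
    rw [← (ha d').2]
    exact congrArg φ hd'

theorem le_fixSub {D : Subgroup H} [Fintype D] {φ : D → ℂ} (hφ : IsCharacter D φ) :
    D ≤ fixSub D φ := fun g hg d =>
  ⟨mul_mem (mul_mem hg d.2) (inv_mem hg), hφ.isClassFunction d ⟨g, hg⟩⟩

include hθ in
/-- Two extensions of `θ` differ by exactly one linear character trivial on `Z`. -/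
theorem exists_twist {D : Subgroup H} [Fintype D] (hZD : Z ≤ D)
    (hinv : ∀ g : H, conjTwist Z θ g = θ) {φ φ' : D → ℂ} (hφ : IsCharacter D φ)
    (hφ' : IsCharacter D φ') (hφres : ∀ z : Z, φ ⟨z, hZD z.2⟩ = θ z)
    (hφ'res : ∀ z : Z, φ' ⟨z, hZD z.2⟩ = θ z) :
    ∃ μ : D →* ℂˣ, (∀ d : D, (d : H) ∈ Z → μ d = 1) ∧ φ' = φ * fun d => (μ d : ℂ) := by
  classical
  set N : Subgroup D := Z.subgroupOf D
  haveI : N.Normal := Subgroup.Normal.subgroupOf inferInstance D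
  haveI := Fintype.ofFinite N
  have hθN := isIrrCharacter_resTo Z hθ hZD
  have hone : IsIrrCharacter N (fun _ => (1 : ℂ)) := isIrrCharacter_one
  have hϑinv : ∀ g : D, conjTwist N (resTo Z θ D) g = resTo Z θ D := fun g => funext fun n =>
    congrFun (hinv (g : H)) ⟨((n : D) : H), Subgroup.mem_subgroupOf.1 n.2⟩
  have hprodeq : ((fun _ => (1 : ℂ)) * resTo Z θ D : N → ℂ) = resTo Z θ D := by
    funext n; simp
  have key := fun (f : D → ℂ) (hf : IsCharacter D f) (hfr : ∀ z : Z, f ⟨z, hZD z.2⟩ = θ z) =>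
    gallagher_bijOn N (φ := fun _ => (1 : ℂ)) (ϑ := resTo Z θ D) hone (fun g => rfl) hϑinv
      (by rw [hprodeq]; exact hθN) hf
      (fun n => hfr ⟨((n : D) : H), Subgroup.mem_subgroupOf.1 n.2⟩)
  have h1mem : (fun _ : D => (1 : ℂ)) ∈ {β : D → ℂ | IsIrrCharacter D β ∧
      classInner (indFun N (fun _ => 1)) β ≠ 0} := by
    refine ⟨isIrrCharacter_one, ?_⟩
    rw [classInner_indFun N _ isIrrCharacter_one.isClassFunction]
    show classInner (fun _ : N => (1 : ℂ)) (fun _ => (1 : ℂ)) ≠ 0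
    rw [classInner_irr_self hone]
    exact one_ne_zero
  have htgt' := (key φ' hφ' hφ'res).mapsTo h1mem
  simp only [show ((fun _ : D => (1 : ℂ)) * φ') = φ' from funext fun d => one_mul _] at htgt'
  obtain ⟨β, ⟨hβ, hβ0⟩, hβeq⟩ := (key φ hφ hφres).surjOn htgt'
  have hβeq' : β * φ = φ' := hβeq
  have hβ1 : β 1 = 1 := by
    have h1 := congrFun hβeq' 1
    have e1 : φ 1 = θ 1 := hφres 1
    have e2 : φ' 1 = θ 1 := hφ'res 1
    rw [Pi.mul_apply, e1, e2] at h1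
    exact (mul_eq_right₀ hθ.apply_one_ne_zero).1 h1
  obtain ⟨μ, hμ⟩ := exists_hom_of_degree_one hβ.isCharacter hβ1
  refine ⟨μ, fun d hd => ?_, ?_⟩
  · have h1 : β d = β 1 := apply_eq_of_constituent
      (isCharacter_indFun N hone.isCharacter) hβ hβ0 (indFun_one_apply N ⟨d, hd⟩)
    rw [hμ] at h1
    simpa using h1
  · funext d
    rw [← hβeq', hμ]
    simp [mul_comm]

include hθ in
/-- The linear character between two extensions of `θ` is unique. -/
theorem twist_unique {D : Subgroup H} [Fintype D] (hZD : Z ≤ D)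
    (hinv : ∀ g : H, conjTwist Z θ g = θ) {φ : D → ℂ} (hφ : IsCharacter D φ)
    (hφres : ∀ z : Z, φ ⟨z, hZD z.2⟩ = θ z) {μ ν : D →* ℂˣ}
    (hμ : ∀ d : D, (d : H) ∈ Z → μ d = 1) (hν : ∀ d : D, (d : H) ∈ Z → ν d = 1)
    (h : (φ * fun d => (μ d : ℂ)) = φ * fun d => (ν d : ℂ)) : μ = ν := by
  classical
  set N : Subgroup D := Z.subgroupOf D
  haveI : N.Normal := Subgroup.Normal.subgroupOf inferInstance D
  haveI := Fintype.ofFinite N
  have hone : IsIrrCharacter N (fun _ => (1 : ℂ)) := isIrrCharacter_one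
  have hprodeq : ((fun _ => (1 : ℂ)) * resTo Z θ D : N → ℂ) = resTo Z θ D := by
    funext n; simp
  have key := gallagher_bijOn N (φ := fun _ => (1 : ℂ)) (ϑ := resTo Z θ D) hone (fun g => rfl)
    (fun g => funext fun n =>
      congrFun (hinv (g : H)) ⟨((n : D) : H), Subgroup.mem_subgroupOf.1 n.2⟩)
    (by rw [hprodeq]; exact isIrrCharacter_resTo Z hθ hZD) hφ
    (fun n => hφres ⟨((n : D) : H), Subgroup.mem_subgroupOf.1 n.2⟩)
  have hmem : ∀ κ : D →* ℂˣ, (∀ d : D, (d : H) ∈ Z → κ d = 1) →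
      (fun d => (κ d : ℂ)) ∈ {β : D → ℂ | IsIrrCharacter D β ∧
        classInner (indFun N (fun _ => 1)) β ≠ 0} := by
    intro κ hκ
    refine ⟨isIrrCharacter_linear κ, ?_⟩
    rw [classInner_indFun N _ (isIrrCharacter_linear κ).isClassFunction,
      show (fun n : N => (κ n : ℂ)) = fun _ => 1 from funext fun n => by
        rw [hκ n (Subgroup.mem_subgroupOf.1 n.2), Units.val_one],
      classInner_irr_self hone]
    exact one_ne_zero
  have := key.injOn (hmem μ hμ) (hmem ν hν) (by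
    show (fun d => (μ d : ℂ)) * φ = (fun d => (ν d : ℂ)) * φ
    rw [mul_comm _ φ, mul_comm _ φ]; exact h)
  exact MonoidHom.ext fun d => Units.ext (congrFun this d)

include hχ hθ he hres in
theorem exists_extension (x : H) [Fintype (cyc Z x)] :
    ∃ φ : cyc Z x → ℂ, IsCharacter (cyc Z x) φ ∧ ∀ z : Z, φ ⟨z, le_cyc x z.2⟩ = θ z := by
  classical
  have hinv := fullyRamified_invariant hχ he hres
  set D := cyc Z x
  set Z' : Subgroup D := Z.subgroupOf D with hZ'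
  haveI := Fintype.ofFinite Z'
  obtain ⟨n, σ, hσ, hσc⟩ := isIrrCharacter_resTo Z hθ (le_cyc x)
  haveI := hσ
  haveI : Z'.Normal := Subgroup.Normal.subgroupOf inferInstance D
  have hcycQ : IsCyclic (D ⧸ Z') := by
    refine ⟨⟨((⟨x, mem_cyc_self x⟩ : D) : D ⧸ Z'), fun q => ?_⟩⟩
    obtain ⟨d, rfl⟩ := QuotientGroup.mk_surjective q
    obtain ⟨i, hi⟩ := d.2
    refine ⟨i, ?_⟩
    show (((⟨x, mem_cyc_self x⟩ : D) : D ⧸ Z') ^ i) = _
    rw [← QuotientGroup.mk_zpow, QuotientGroup.eq, hZ', Subgroup.mem_subgroupOf]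
    show (((⟨x, mem_cyc_self x⟩ : D) ^ i : D) : H)⁻¹ * (d : H) ∈ Z
    rw [← QuotientGroup.eq, Subgroup.coe_zpow, QuotientGroup.mk_zpow]
    exact hi
  obtain ⟨ρ, hρ⟩ := exists_extension_of_cyclic σ (fun g z => by
    rw [hσc]
    show θ ⟨_, _⟩ = θ ⟨_, _⟩
    have h1 := congrFun (hinv (g : H)) ⟨((z : D) : H), Subgroup.mem_subgroupOf.1 z.2⟩
    rw [← h1]
    refine congrArg θ (Subtype.ext ?_)
    rfl) hcycQ
  refine ⟨ρ.character, isCharacter_character ρ, fun z => ?_⟩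
  show LinearMap.trace ℂ _ (ρ _) = _
  rw [hρ ⟨⟨z, le_cyc x z.2⟩, z.2⟩]
  exact congrFun hσc ⟨⟨z, le_cyc x z.2⟩, z.2⟩

include hχ hθ he hres in
/-- Some element centralizing `x` modulo `Z` moves every extension of `θ` to `Z⟨x⟩`. -/
theorem exists_moved {x : H} (hxZ : x ∉ Z) [Fintype (cyc Z x)] {φ : cyc Z x → ℂ}
    (hφ : IsCharacter (cyc Z x) φ) (hφres : ∀ z : Z, φ ⟨z, le_cyc x z.2⟩ = θ z) :
    ∃ g : H, Commute (g : H ⧸ Z) (x : H ⧸ Z) ∧ g ∉ fixSub (cyc Z x) φ := by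
  classical
  by_contra hfix
  push Not at hfix
  haveI := Fintype.ofFinite (Z.subgroupOf (cyc Z x))
  haveI : (Z.subgroupOf (cyc Z x)).Normal := Subgroup.Normal.subgroupOf inferInstance (cyc Z x)
  have hxD : x ∈ (cyc Z x) := mem_cyc_self x
  set y : (cyc Z x) := ⟨x, hxD⟩ with hy
  set Z' : Subgroup (cyc Z x) := Z.subgroupOf (cyc Z x) with hZ'
  haveI hcycQ : IsCyclic ((cyc Z x) ⧸ Z') := by
    refine ⟨⟨(y : (cyc Z x) ⧸ Z'), fun q => ?_⟩⟩
    obtain ⟨d, rfl⟩ := QuotientGroup.mk_surjective q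
    obtain ⟨i, hi⟩ := d.2
    refine ⟨i, ?_⟩
    show ((y : (cyc Z x) ⧸ Z') ^ i) = _
    rw [← QuotientGroup.mk_zpow, QuotientGroup.eq, hZ', Subgroup.mem_subgroupOf]
    show ((y ^ i : (cyc Z x)) : H)⁻¹ * (d : H) ∈ Z
    rw [← QuotientGroup.eq, Subgroup.coe_zpow, QuotientGroup.mk_zpow]
    exact hi
  letI : CommGroup ((cyc Z x) ⧸ Z') := IsCyclic.commGroup
  haveI := Fintype.ofFinite ((cyc Z x) ⧸ Z')
  have hcardIrr : ∀ q : (cyc Z x) ⧸ Z', ∑ μ : IrrCharacter ((cyc Z x) ⧸ Z'),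
      (μ : (cyc Z x) ⧸ Z' → ℂ) q * conj ((μ : (cyc Z x) ⧸ Z' → ℂ) (y : (cyc Z x) ⧸ Z')) =
        if q = (y : (cyc Z x) ⧸ Z') then (Nat.card ((cyc Z x) ⧸ Z') : ℂ) else 0 := by
    intro q
    set f : (cyc Z x) ⧸ Z' → ℂ := fun r => if r = (y : (cyc Z x) ⧸ Z') then 1 else 0 with hf
    have hfc : IsClassFunction ((cyc Z x) ⧸ Z') f := fun a b => by
      rw [mul_comm b, mul_inv_cancel_right]
    have h1 : ∀ μ : IrrCharacter ((cyc Z x) ⧸ Z'), classInner f (μ : (cyc Z x) ⧸ Z' → ℂ) =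
        (Nat.card ((cyc Z x) ⧸ Z') : ℂ)⁻¹ * conj ((μ : (cyc Z x) ⧸ Z' → ℂ) (y : (cyc Z x) ⧸ Z')) := fun μ => by
      simp only [classInner, hf, ite_mul, one_mul, zero_mul, Finset.sum_ite_eq', Finset.mem_univ,
        if_true]
    have h2 := congrFun (eq_sum_classInner hfc) q
    simp only [Finset.sum_apply, Pi.smul_apply, smul_eq_mul] at h2
    rw [Finset.sum_congr rfl fun μ _ => by rw [h1 μ, mul_assoc], ← Finset.mul_sum,
      eq_inv_mul_iff_mul_eq₀ card_cast_ne_zero] at h2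
    rw [Finset.sum_congr rfl fun μ _ => mul_comm _ _, ← h2]
    simp [hf, mul_ite]
  have hvan : ∀ z : Z', φ ((z : (cyc Z x)) * y) = 0 := by
    intro z
    set h : H := ((z : (cyc Z x)) : H) * x with hh
    have hhD : h ∈ (cyc Z x) := mul_mem (z : (cyc Z x)).2 hxD
    have hhx : (h : H ⧸ Z) = (x : H ⧸ Z) := by
      rw [hh, QuotientGroup.mk_mul, (QuotientGroup.eq_one_iff _).2
        (Subgroup.mem_subgroupOf.1 z.2), one_mul]
    have hhZ : h ∉ Z := fun hm => hxZ ((Subgroup.mul_mem_cancel_left _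
      (Subgroup.mem_subgroupOf.1 z.2)).1 hm)
    have hzero : ∀ μ : IrrCharacter ((cyc Z x) ⧸ Z'),
        ∑ g : H, extendByZero (cyc Z x) (fun d => φ d * (μ : (cyc Z x) ⧸ Z' → ℂ) d) (g⁻¹ * h * g) = 0 := by
      intro μ
      have h0 := indFun_eq_zero_of_over hχ hθ he hres
        (D := cyc Z x) (φ := fun d => φ d * (μ : (cyc Z x) ⧸ Z' → ℂ) d)
        (hφ.mul (isCharacter_inflate Z' μ.2.isCharacter)) (le_cyc x) (c := (μ : (cyc Z x) ⧸ Z' → ℂ) 1)
        (fun w => by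
          rw [hφres, show ((⟨(w : H), le_cyc x w.2⟩ : (cyc Z x)) : (cyc Z x) ⧸ Z') = 1 from
            (QuotientGroup.eq_one_iff _).2 w.2, mul_comm]) hhZ
      simp only [indFun] at h0
      exact (mul_eq_zero.1 h0).resolve_left (inv_ne_zero card_cast_ne_zero)
    have hterm : ∀ g : H, ∑ μ : IrrCharacter ((cyc Z x) ⧸ Z'),
        conj ((μ : (cyc Z x) ⧸ Z' → ℂ) (y : (cyc Z x) ⧸ Z')) *
          extendByZero (cyc Z x) (fun d => φ d * (μ : (cyc Z x) ⧸ Z' → ℂ) d) (g⁻¹ * h * g) =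
        if Commute (g : H ⧸ Z) (x : H ⧸ Z) then (Nat.card ((cyc Z x) ⧸ Z') : ℂ) * φ ⟨h, hhD⟩ else 0 := by
      intro g
      by_cases hg : g⁻¹ * h * g ∈ (cyc Z x)
      · simp only [extendByZero_of_mem (cyc Z x) _ hg]
        rw [Finset.sum_congr rfl fun (μ : IrrCharacter ((cyc Z x) ⧸ Z')) _ =>
          show conj ((μ : (cyc Z x) ⧸ Z' → ℂ) (y : (cyc Z x) ⧸ Z')) *
            (φ ⟨g⁻¹ * h * g, hg⟩ * (μ : (cyc Z x) ⧸ Z' → ℂ) ((⟨g⁻¹ * h * g, hg⟩ : (cyc Z x)) : (cyc Z x) ⧸ Z')) =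
          φ ⟨g⁻¹ * h * g, hg⟩ * ((μ : (cyc Z x) ⧸ Z' → ℂ) ((⟨g⁻¹ * h * g, hg⟩ : (cyc Z x)) : (cyc Z x) ⧸ Z') *
            conj ((μ : (cyc Z x) ⧸ Z' → ℂ) (y : (cyc Z x) ⧸ Z'))) by ring, ← Finset.mul_sum, hcardIrr]
        have hiff : ((⟨g⁻¹ * h * g, hg⟩ : (cyc Z x)) : (cyc Z x) ⧸ Z') = (y : (cyc Z x) ⧸ Z') ↔
            Commute (g : H ⧸ Z) (x : H ⧸ Z) := by
          rw [QuotientGroup.eq, hZ', Subgroup.mem_subgroupOf]
          show (g⁻¹ * h * g)⁻¹ * x ∈ Z ↔ _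
          rw [← QuotientGroup.eq, QuotientGroup.mk_mul, QuotientGroup.mk_mul, QuotientGroup.mk_inv,
            hhx, mul_assoc, inv_mul_eq_iff_eq_mul]
          exact ⟨fun he => he.symm, fun hc => hc.eq.symm⟩
        by_cases hc : Commute (g : H ⧸ Z) (x : H ⧸ Z)
        · rw [if_pos hc, if_pos (hiff.2 hc), mul_comm]
          congr 1
          obtain ⟨hm, hmv⟩ := (inv_mem (hfix g hc) : g⁻¹ ∈ fixSub (cyc Z x) φ) ⟨h, hhD⟩
          rw [← hmv]
          exact congrArg φ (Subtype.ext (by simp))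
        · rw [if_neg hc, if_neg (fun he => hc (hiff.1 he)), mul_zero]
      · simp only [extendByZero_of_notMem (cyc Z x) _ hg, mul_zero, Finset.sum_const_zero]
        rw [if_neg]
        intro hgD
        refine hg ?_
        have := conj_mem_cyc (x := x) (g := g⁻¹) (d := h) (by
          rw [QuotientGroup.mk_inv]; exact hgD.inv_left) hhD
        simpa using this
    have htot : ∑ g : H, (if Commute (g : H ⧸ Z) (x : H ⧸ Z) then
        (Nat.card ((cyc Z x) ⧸ Z') : ℂ) * φ ⟨h, hhD⟩ else 0) = 0 := by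
      rw [← Finset.sum_congr rfl fun g _ => hterm g, Finset.sum_comm]
      refine Finset.sum_eq_zero fun μ _ => ?_
      rw [← Finset.mul_sum, hzero, mul_zero]
    rw [← Finset.sum_filter, Finset.sum_const, nsmul_eq_mul, mul_eq_zero, mul_eq_zero] at htot
    rcases htot with h0 | h0 | h0
    · exact absurd (Finset.card_eq_zero.1 (Nat.cast_eq_zero.1 h0))
        (Finset.ne_empty_of_mem (Finset.mem_filter.2 ⟨Finset.mem_univ x, Commute.refl _⟩))
    · exact absurd h0 card_cast_ne_zero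
    · exact h0
  have hsum := sum_coset_self (N := Z') (χ := resTo Z θ (cyc Z x)) (isIrrCharacter_resTo Z hθ (le_cyc x)) hφ
    (fun w => hφres ⟨((w : (cyc Z x)) : H), Subgroup.mem_subgroupOf.1 w.2⟩) y
  rw [Finset.sum_eq_zero fun w _ => by rw [hvan w, zero_mul]] at hsum
  exact card_cast_ne_zero hsum.symm

end Cfsg.Lib.Char.RamifiedSolvable
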