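import Cfsg.Agent.Lib.Char.RamifiedSylow
import Cfsg.Agent.Lib.Char.FullyRamified
import Cfsg.Agent.Lib.Char.Linear

/-!
# The inertia group of a character over a fully ramified character
-/

set_option autoImplicit false
set_option linter.unusedSectionVars false
set_option linter.style.haveILetI false

namespace Cfsg.Lib.Char.RamifiedSolvable

open Cfsg Cfsg.Lib.Char Cfsg.Lib.Char.RamifiedSylow
open scoped ComplexConjugate

universe u

/-- The Sylow subgroups of `H ⧸ Z` of order at least `p ^ 6` are commutative. -/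
def AbSylows {H : Type u} [Group H] (Z : Subgroup H) [Z.Normal] : Prop :=
  ∀ p : ℕ, p.Prime → p ^ 6 ∣ Z.index → ∀ P : Sylow p (H ⧸ Z), IsMulCommutative P

theorem AbSylows.inertia {H : Type u} [Group H] [Finite H] {Z : Subgroup H} [Z.Normal]
    (hab : AbSylows Z) {B T : Subgroup H} [B.Normal] (hZB : Z ≤ B) (hBT : B ≤ T) :
    AbSylows (B.subgroupOf T) := by
  intro p hp hdvd P
  haveI := Fact.mk hp
  have hp6 : p ^ 6 ∣ Z.index := by
    refine hdvd.trans ?_
    rw [← Subgroup.relIndex_mul_index (hZB.trans hBT),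
      ← Subgroup.relIndex_mul_relIndex Z B T hZB hBT]
    exact dvd_mul_of_dvd_left (dvd_mul_left _ _) _
  haveI : (Z.subgroupOf T).Normal := Subgroup.Normal.subgroupOf inferInstance T
  let f : T ⧸ Z.subgroupOf T →* T ⧸ B.subgroupOf T :=
    QuotientGroup.map _ _ (MonoidHom.id T) (fun x hx => hZB hx)
  have hf : Function.Surjective f := fun q => by
    obtain ⟨t, rfl⟩ := QuotientGroup.mk_surjective q
    exact ⟨t, rfl⟩
  let g : T ⧸ Z.subgroupOf T →* H ⧸ Z := QuotientGroup.map _ _ T.subtype (fun x hx => hx)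
  have hg : Function.Injective g := by
    rw [← MonoidHom.ker_eq_bot_iff, eq_bot_iff]
    intro q hq
    obtain ⟨t, rfl⟩ := QuotientGroup.mk_surjective q
    rw [Subgroup.mem_bot, QuotientGroup.eq_one_iff]
    exact (QuotientGroup.eq_one_iff (t : H)).1 hq
  obtain ⟨S, rfl⟩ := Sylow.mapSurjective_surjective hf p P
  obtain ⟨U, hU⟩ := (S.2.map g).exists_le_sylow
  have hUc := hab p hp hp6 U
  refine ⟨⟨fun a b => ?_⟩⟩
  obtain ⟨s, hs, hsa⟩ := (show (a : T ⧸ B.subgroupOf T) ∈ (S : Subgroup _).map f from a.2)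
  obtain ⟨t, ht, htb⟩ := (show (b : T ⧸ B.subgroupOf T) ∈ (S : Subgroup _).map f from b.2)
  refine Subtype.ext ?_
  show (a : T ⧸ B.subgroupOf T) * (b : T ⧸ B.subgroupOf T) = (b : T ⧸ B.subgroupOf T) * a
  rw [← hsa, ← htb, ← map_mul, ← map_mul]
  congr 1
  exact hg (by
    rw [map_mul, map_mul]
    exact congrArg Subtype.val (hUc.is_comm.comm (⟨g s, hU ⟨s, hs, rfl⟩⟩ : (U : Subgroup (H ⧸ Z)))
      ⟨g t, hU ⟨t, ht, rfl⟩⟩))

variable {H : Type u} [Group H] [Fintype H] {Z : Subgroup H} [hZ : Z.Normal] [Fintype Z]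
  {χ : H → ℂ} (hχ : IsIrrCharacter H χ) {θ : Z → ℂ} (hθ : IsIrrCharacter Z θ) {e : ℕ}
  (he : e ^ 2 = Z.index) (hres : ∀ z : Z, χ z = (e : ℂ) * θ z)
  {B : Subgroup H} [B.Normal] [Fintype B] (hZB : Z ≤ B)

include hχ hθ he hres in
/-- The characters of `B` over `θ` are the constituents of `χ`. -/
theorem constituent_of_over {ψ : B → ℂ} (hψ : IsIrrCharacter B ψ)
    (hψθ : classInner (fun z : Z => ψ ⟨z, hZB z.2⟩) θ ≠ 0) :
    classInner (fun b : B => χ b) ψ ≠ 0 := by
  obtain ⟨η, hη⟩ := exists_constituent (isCharacter_indFun B hψ.isCharacter) (by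
    rw [indFun_apply_one]
    exact mul_ne_zero (Nat.cast_ne_zero.mpr Subgroup.index_ne_zero_of_finite) hψ.apply_one_ne_zero)
  rw [classInner_indFun B ψ η.2.isClassFunction, ← classInner_conj_symm] at hη
  replace hη : classInner (fun b : B => (η : H → ℂ) b) ψ ≠ 0 :=
    fun h => hη (by rw [h, map_zero])
  have h1 := over_trans (η.2.isCharacter.comp B.subtype) (Subgroup.inclusion hZB) hθ.isCharacter hψ
    hη hψθ
  rw [fullyRamified_unique hχ hθ he hres η.2 (fun h => h1 (by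
    show classInner (fun z : Z => (η : H → ℂ) z) θ = 0
    rw [← classInner_conj_symm, h, map_zero]))] at hη
  exact hη

include hχ hθ he hres in
theorem exists_over : ∃ ψ : B → ℂ, IsIrrCharacter B ψ ∧
    classInner (fun z : Z => ψ ⟨z, hZB z.2⟩) θ ≠ 0 := by
  obtain ⟨ψ, hψ⟩ := exists_irr_constituent_res B hχ
  refine ⟨ψ, ψ.2, fun h0 => ?_⟩
  obtain ⟨ζ, hζ⟩ := exists_constituent (ψ.2.isCharacter.comp (Subgroup.inclusion hZB)) (by
    show (ψ : B → ℂ) (Subgroup.inclusion hZB 1) ≠ 0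
    rw [map_one]; exact ψ.2.apply_one_ne_zero)
  have h1 := over_trans (hχ.isCharacter.comp B.subtype) (Subgroup.inclusion hZB) ζ.2.isCharacter ψ.2
    hψ hζ
  have h2 : classInner (fun z : Z => χ z) (ζ : Z → ℂ) ≠ 0 := h1
  rw [show (fun z : Z => χ z) = (e : ℂ) • θ from funext hres, classInner_smul_left] at h2
  have h3 : θ = (ζ : Z → ℂ) := by
    by_contra hne
    exact h2 (by rw [classInner_irr_ne hθ ζ.2 hne, mul_zero])
  exact hζ (h3 ▸ h0)

include hχ he hres in
theorem over_conjTwist {ψ : B → ℂ} (g : H) :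
    classInner (fun z : Z => conjTwist B ψ g ⟨z, hZB z.2⟩) θ =
      classInner (fun z : Z => ψ ⟨z, hZB z.2⟩) θ := by
  conv_lhs => rw [← fullyRamified_invariant hχ he hres g]
  refine (congrArg (fun f => classInner f (conjTwist Z θ g)) ?_).trans
    (classInner_conjTwist Z (fun z : Z => ψ ⟨z, hZB z.2⟩) θ g)
  rfl

include hχ hθ he hres in
/-- The inertia group has a character fully ramified over `B`. -/
theorem exists_inertia_ramified {ψ : B → ℂ} (hψ : IsIrrCharacter B ψ)
    (hψθ : classInner (fun z : Z => ψ ⟨z, hZB z.2⟩) θ ≠ 0)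
    [Fintype (inertia B ψ)] [Fintype (B.subgroupOf (inertia B ψ))] :
    ∃ (ξ : inertia B ψ → ℂ) (d : ℕ), IsIrrCharacter (inertia B ψ) ξ ∧
      d ^ 2 = (B.subgroupOf (inertia B ψ)).index ∧
      ∀ b : B.subgroupOf (inertia B ψ), ξ b = (d : ℂ) * resTo B ψ (inertia B ψ) b := by
  classical
  set T := inertia B ψ with hT
  have hBT : B ≤ T := le_inertia B hψ.isClassFunction
  set B' := B.subgroupOf T with hB'
  haveI : B'.Normal := Subgroup.Normal.subgroupOf inferInstance T
  have hθB := isIrrCharacter_resTo B hψ hBT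
  have hinv : ∀ t : T, conjTwist B' (resTo B ψ T) t = resTo B ψ T := fun t => funext fun x =>
    congrFun ((mem_inertia B).1 t.2) ⟨((x : T) : H), Subgroup.mem_subgroupOf.1 x.2⟩
  have huniq : ∀ ω₁ ω₂ : T → ℂ, IsIrrCharacter T ω₁ → IsIrrCharacter T ω₂ →
      classInner (fun b : B' => ω₁ b) (resTo B ψ T) ≠ 0 →
      classInner (fun b : B' => ω₂ b) (resTo B ψ T) ≠ 0 → ω₁ = ω₂ := by
    intro ω₁ ω₂ h₁ h₂ e₁ e₂
    rw [classInner_resTo B ψ hBT] at e₁ e₂
    have hind : ∀ ω : T → ℂ, IsIrrCharacter T ω →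
        classInner (fun b : B => ω ⟨b, hBT b.2⟩) ψ ≠ 0 → indFun T ω = χ := by
      intro ω hω hc
      obtain ⟨hirr, hmult⟩ := clifford_induce B hψ hBT hT hω hc
      refine fullyRamified_unique hχ hθ he hres hirr fun h => ?_
      refine over_trans (hirr.isCharacter.comp B.subtype) (Subgroup.inclusion hZB) hθ.isCharacter hψ
        (hmult.trans_ne hc) hψθ ?_
      show classInner (fun z : Z => indFun T ω z) θ = 0
      rw [← classInner_conj_symm, h, map_zero]
    exact clifford_injective B hψ hBT hT h₁ h₂ e₁ e₂ ((hind ω₁ h₁ e₁).trans (hind ω₂ h₂ e₂).symm)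
  obtain ⟨c, d, ω, hω, hd, hd0, hcd, hcc⟩ := exists_mult B' hθB.isCharacter (MonoidHom.id B')
    (fun g φ _ => by
      show classInner (conjTwist B' φ g) (resTo B ψ T) = classInner φ (resTo B ψ T)
      conv_lhs => rw [← hinv g]
      exact classInner_conjTwist B' φ (resTo B ψ T) g)
    (fun ω₁ ω₂ h₁ h₂ e₁ e₂ => huniq ω₁ ω₂ h₁ h₂ e₁ e₂) (ψ := resTo B ψ T) hθB (a := 1) one_ne_zero
    (by
      show classInner (resTo B ψ T) (resTo B ψ T) = _
      rw [classInner_irr_self hθB, Nat.cast_one])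
  have hin : (inertia B' (resTo B ψ T)).index = 1 := by
    rw [show inertia B' (resTo B ψ T) = ⊤ from eq_top_iff.2 fun t _ => hinv t, Subgroup.index_top]
  rw [hin, mul_one] at hcc
  rw [mul_one] at hcd
  have hc0 : c ≠ 0 := fun h => by
    rw [h, zero_mul] at hcd
    exact Subgroup.index_ne_zero_of_finite (H := B') hcd.symm
  have hdc : d = c := Nat.eq_of_mul_eq_mul_left (Nat.pos_of_ne_zero hc0) (hcd.trans hcc.symm)
  refine ⟨ω, d, hω, by rw [pow_two, hdc, hcc], fun b => ?_⟩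
  have hd' : classInner (fun b : B' => ω b) (resTo B ψ T) = d := hd
  have h := clifford_invariant B' hω hθB hinv (hd'.trans_ne (Nat.cast_ne_zero.mpr hd0))
  rw [hd'] at h
  exact congrFun h b

end Cfsg.Lib.Char.RamifiedSolvable
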