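import Cfsg.Agent.Lib.Char.RamifiedSolvable.Good

/-!
# No normalized cyclic Sylow subgroup with nontrivial automizer

In the quotient by the ramified subgroup, a subgroup normalized by the centralizer of an element
generating one of its Sylow subgroups cannot move that element to a different power.
-/

set_option autoImplicit false
set_option linter.unusedSectionVars false
set_option linter.style.haveILetI false

namespace Cfsg.Lib.Char.RamifiedSolvable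

open Cfsg Cfsg.Lib.Char

universe u

theorem mem_of_parts {G : Type*} [Group G] {g : G} {K : Subgroup G} {a b : ℕ}
    (hab : Nat.Coprime a b) (ha : g ^ a ∈ K) (hb : g ^ b ∈ K) : g ∈ K := by
  have h : g = (g ^ a) ^ Nat.gcdA a b * (g ^ b) ^ Nat.gcdB a b := by
    rw [← zpow_natCast, ← zpow_natCast, ← zpow_mul, ← zpow_mul, ← zpow_add, ← Nat.gcd_eq_gcd_ab,
      hab.gcd_eq_one, Nat.cast_one, zpow_one]
  rw [h]
  exact mul_mem (zpow_mem ha _) (zpow_mem hb _)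

theorem exists_split {G : Type*} [Group G] [Finite G] (s : ℕ) [hs : Fact s.Prime] (g : G) :
    ∃ m r : ℕ, orderOf g = s ^ m * r ∧ Nat.Coprime (s ^ m) r ∧ Nat.Coprime s r ∧
      orderOf (g ^ r) = s ^ m ∧ orderOf (g ^ s ^ m) = r := by
  obtain ⟨m, r, hr, heq⟩ := Nat.exists_eq_pow_mul_and_not_dvd (orderOf_pos g).ne' s hs.out.ne_one
  have hcop : Nat.Coprime s r := (Nat.Prime.coprime_iff_not_dvd hs.out).2 hr
  have hr0 : r ≠ 0 := fun h => hr (h ▸ dvd_zero s)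
  have hm0 : s ^ m ≠ 0 := (pow_pos hs.out.pos m).ne'
  refine ⟨m, r, heq, hcop.pow_left m, hcop, ?_, ?_⟩
  · rw [orderOf_pow_of_dvd hr0 (heq ▸ dvd_mul_left r _), heq,
      Nat.mul_div_cancel _ (Nat.pos_of_ne_zero hr0)]
  · rw [orderOf_pow_of_dvd hm0 (heq ▸ dvd_mul_right _ r), heq,
      Nat.mul_div_cancel_left _ (Nat.pos_of_ne_zero hm0)]

variable {H : Type u} [Group H] [Fintype H] {Z : Subgroup H} [hZ : Z.Normal] [Fintype Z]
  {χ : H → ℂ} (hχ : IsIrrCharacter H χ) {θ : Z → ℂ} (hθ : IsIrrCharacter Z θ) {e : ℕ}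
  (he : e ^ 2 = Z.index) (hres : ∀ z : Z, χ z = (e : ℂ) * θ z)

include hχ hθ he hres in
/-- An element normalizing `Z⟨x⟩` multiplies an extension by a linear character. -/
theorem exists_mu {x y : H} [Fintype (cyc Z x)] (hy : ∀ d ∈ cyc Z x, y * d * y⁻¹ ∈ cyc Z x)
    {φ : cyc Z x → ℂ} (hφ : IsCharacter (cyc Z x) φ)
    (hφres : ∀ z : Z, φ ⟨z, le_cyc x z.2⟩ = θ z) :
    ∃ μ : cyc Z x →* ℂˣ, (∀ d : cyc Z x, (d : H) ∈ Z → μ d = 1) ∧
      ∀ d : cyc Z x, φ ⟨y * (d : H) * y⁻¹, hy d d.2⟩ = φ d * (μ d : ℂ) := by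
  have hinv := fullyRamified_invariant hχ he hres
  let f : cyc Z x →* cyc Z x :=
    { toFun := fun d => ⟨y * (d : H) * y⁻¹, hy d d.2⟩
      map_one' := Subtype.ext (by simp)
      map_mul' := fun a b => Subtype.ext (by simp [mul_assoc]) }
  obtain ⟨μ, hμ, h⟩ := exists_twist hθ (le_cyc x) hinv hφ (hφ.comp f) hφres (fun z => by
    have hm : y * (z : H) * y⁻¹ ∈ Z := hZ.conj_mem _ z.2 y
    show φ ⟨y * (z : H) * y⁻¹, _⟩ = θ z
    refine (hφres ⟨_, hm⟩).trans ?_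
    rw [← congrFun (hinv y) z]
    exact congrArg θ (Subtype.ext (by simp [MulAut.conjNormal_apply])))
  exact ⟨μ, hμ, fun d => congrFun h d⟩

theorem mem_fixSub_of_mu {x y : H} (hy : ∀ d ∈ cyc Z x, y * d * y⁻¹ ∈ cyc Z x)
    {φ : cyc Z x → ℂ} {μ : cyc Z x →* ℂˣ}
    (h : ∀ d : cyc Z x, φ ⟨y * (d : H) * y⁻¹, hy d d.2⟩ = φ d * (μ d : ℂ)) (h1 : μ = 1) :
    y ∈ fixSub (cyc Z x) φ := fun d => ⟨hy d d.2, by rw [h, h1]; simp⟩

theorem mu_conj {x y : H} (hy : Commute (y : H ⧸ Z) (x : H ⧸ Z)) {μ : cyc Z x →* ℂˣ}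
    (hμ : ∀ d : cyc Z x, (d : H) ∈ Z → μ d = 1) (d : cyc Z x) :
    μ ⟨y * (d : H) * y⁻¹, conj_mem_cyc hy d.2⟩ = μ d := by
  have hm : (y * (d : H) * y⁻¹) * (d : H)⁻¹ ∈ Z := by
    rw [← QuotientGroup.eq_one_iff, QuotientGroup.mk_mul, QuotientGroup.mk_inv,
      conj_mk_of_commute hy d.2, mul_inv_cancel]
  have h := hμ (⟨y * (d : H) * y⁻¹, conj_mem_cyc hy d.2⟩ * d⁻¹) hm
  rw [map_mul, map_inv, mul_inv_eq_one] at h
  exact h

theorem mu_pow_orderOf {x : H} {μ : cyc Z x →* ℂˣ}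
    (hμ : ∀ d : cyc Z x, (d : H) ∈ Z → μ d = 1) (d : cyc Z x) :
    μ d ^ orderOf (x : H ⧸ Z) = 1 := by
  rw [← map_pow]
  refine hμ _ ?_
  obtain ⟨i, hi⟩ := (show ((d : H) : H ⧸ Z) ∈ Subgroup.zpowers (x : H ⧸ Z) from d.2)
  rw [← QuotientGroup.eq_one_iff, Subgroup.coe_pow, QuotientGroup.mk_pow, ← hi, ← zpow_natCast,
    ← zpow_mul, mul_comm, zpow_mul, zpow_natCast, pow_orderOf_eq_one, one_zpow]

include hχ hθ he hres in
/-- Elements of order prime to `x` modulo `Z` centralizing `x` fix the extension. -/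
theorem mem_fixSub_of_coprime {x y : H} [Fintype (cyc Z x)]
    (hy : Commute (y : H ⧸ Z) (x : H ⧸ Z)) (r : ℕ) (hr : y ^ r ∈ Z)
    (hcop : Nat.Coprime (orderOf (x : H ⧸ Z)) r)
    {φ : cyc Z x → ℂ} (hφ : IsCharacter (cyc Z x) φ)
    (hφres : ∀ z : Z, φ ⟨z, le_cyc x z.2⟩ = θ z) : y ∈ fixSub (cyc Z x) φ := by
  classical
  have hinv := fullyRamified_invariant hχ he hres
  obtain ⟨μ, hμ, h⟩ := exists_mu hχ hθ he hres (fun d hd => conj_mem_cyc hy hd) hφ hφres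
  have hj : ∀ j : ℕ, ∀ d : cyc Z x, ∃ hm : y ^ j * (d : H) * (y ^ j)⁻¹ ∈ cyc Z x,
      φ ⟨_, hm⟩ = φ d * ((μ d ^ j : ℂˣ) : ℂ) := by
    intro j
    induction j with
    | zero => intro d; exact ⟨by simp, by simp⟩
    | succ j ih =>
      intro d
      obtain ⟨hm, he'⟩ := ih ⟨y * (d : H) * y⁻¹, conj_mem_cyc hy d.2⟩
      refine ⟨by simpa [pow_succ, mul_assoc] using hm, ?_⟩
      refine (congrArg φ (Subtype.ext (by simp [pow_succ, mul_assoc]))).trans (he'.trans ?_)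
      rw [h, mu_conj hy hμ, pow_succ', Units.val_mul, mul_assoc]
  have hμr : μ ^ r = 1 := by
    refine twist_unique hθ (le_cyc x) hinv hφ hφres (fun d hd => by simp [hμ d hd])
      (fun d _ => rfl) ?_
    funext d
    obtain ⟨hm, he'⟩ := hj r d
    have hz : φ ⟨_, hm⟩ = φ d := hφ.isClassFunction d ⟨y ^ r, le_cyc x hr⟩
    simpa [Pi.mul_apply] using he'.symm.trans hz
  refine mem_fixSub_of_mu (μ := μ) (fun d hd => conj_mem_cyc hy hd) h (MonoidHom.ext fun d => ?_)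
  have h1 : μ d ^ r = 1 := DFunLike.congr_fun hμr d
  have h2 := pow_gcd_eq_one.2 ⟨mu_pow_orderOf hμ d, h1⟩
  rw [hcop.gcd_eq_one, pow_one] at h2
  exact h2

include hχ hθ he hres in
/-- A subgroup normalized by the centralizer of a generator of its cyclic Sylow subgroup cannot
raise that generator to a power that is not `1` modulo the prime. -/
theorem false_of_normalized {T : Subgroup (H ⧸ Z)} {s k : ℕ} [Fact s.Prime] {x : H ⧸ Z}
    (hk : orderOf x = s ^ k) (hxT : x ∈ T) (hx1 : x ≠ 1)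
    (hcent : ∀ c ∈ T, Commute c x → (∃ m, orderOf c = s ^ m) → c ∈ Subgroup.zpowers x)
    {n : H ⧸ Z} (hn : n ∈ T) {a : ℕ} (hna : n * x * n⁻¹ = x ^ a)
    (ha : ¬ (s : ℤ) ∣ (a : ℤ) - 1)
    (hnorm : ∀ y, Commute y x → (∃ m, orderOf y = s ^ m) → ∀ t ∈ T, y * t * y⁻¹ ∈ T) :
    False := by
  classical
  have hs : s.Prime := Fact.out
  obtain ⟨x, rfl⟩ := QuotientGroup.mk_surjective x
  obtain ⟨n, rfl⟩ := QuotientGroup.mk_surjective n
  haveI : Fintype (cyc Z x) := Fintype.ofFinite _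
  have hxZ : x ∉ Z := fun h => hx1 ((QuotientGroup.eq_one_iff x).2 h)
  obtain ⟨φ, hφ, hφres⟩ := exists_extension hχ hθ he hres x
  have hinv := fullyRamified_invariant hχ he hres
  have hnD : ∀ d ∈ cyc Z x, n * d * n⁻¹ ∈ cyc Z x := by
    intro d hd
    obtain ⟨i, hi⟩ := (show (d : H ⧸ Z) ∈ Subgroup.zpowers (x : H ⧸ Z) from hd)
    show ((n * d * n⁻¹ : H) : H ⧸ Z) ∈ Subgroup.zpowers (x : H ⧸ Z)
    rw [QuotientGroup.mk_mul, QuotientGroup.mk_mul, QuotientGroup.mk_inv, ← hi, ← conj_zpow, hna]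
    exact zpow_mem (pow_mem (Subgroup.mem_zpowers _) a) i
  have hcop : ∀ {r : ℕ}, Nat.Coprime s r → Nat.Coprime (orderOf (x : H ⧸ Z)) r := fun h =>
    hk ▸ h.pow_left k
  -- the prime part of the centralizer fixes the extension
  have hprim : ∀ y : H, Commute (y : H ⧸ Z) (x : H ⧸ Z) → (∃ m, orderOf (y : H ⧸ Z) = s ^ m) →
      y ∈ fixSub (cyc Z x) φ := by
    intro y hy hys
    obtain ⟨μ, hμ, hyφ⟩ := exists_mu hχ hθ he hres (fun d hd => conj_mem_cyc hy hd) hφ hφres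
    obtain ⟨ν, hν, hnφ⟩ := exists_mu hχ hθ he hres hnD hφ hφres
    set c : H := n⁻¹ * y⁻¹ * n * y with hc
    have hcT : (c : H ⧸ Z) ∈ T := by
      have h1 := hnorm _ hy.inv_left (by
        obtain ⟨m, hm⟩ := hys
        exact ⟨m, by rw [orderOf_inv, hm]⟩) _ hn
      have e : (c : H ⧸ Z) = (n : H ⧸ Z)⁻¹ * ((y : H ⧸ Z)⁻¹ * (n : H ⧸ Z) * (y : H ⧸ Z)⁻¹⁻¹) := by
        simp [hc, mul_assoc]
      rw [e]
      exact mul_mem (inv_mem hn) h1
    have hcx : Commute (c : H ⧸ Z) (x : H ⧸ Z) := by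
      have e1 : Commute ((n : H ⧸ Z)⁻¹ * (y : H ⧸ Z)⁻¹ * (n : H ⧸ Z)) (x : H ⧸ Z) := by
        have h2 : Commute (y : H ⧸ Z)⁻¹ ((x : H ⧸ Z) ^ a) := (hy.pow_right a).inv_left
        rw [← hna] at h2
        simpa [mul_assoc] using h2.map (MulAut.conj (n : H ⧸ Z)⁻¹).toMonoidHom
      simpa [hc] using e1.mul_left hy
    have hcfix : c ∈ fixSub (cyc Z x) φ := by
      obtain ⟨m, r, -, hmr, hsr, hom, hor⟩ := exists_split s (c : H ⧸ Z)
      refine mem_of_parts hmr ?_ ?_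
      · refine mem_fixSub_of_coprime hχ hθ he hres ?_ r ?_ (hcop hsr) hφ hφres
        · rw [QuotientGroup.mk_pow]; exact hcx.pow_left _
        · rw [← QuotientGroup.eq_one_iff, QuotientGroup.mk_pow, QuotientGroup.mk_pow]
          exact orderOf_dvd_iff_pow_eq_one.1 hor.dvd
      · refine le_fixSub hφ ?_
        show ((c ^ r : H) : H ⧸ Z) ∈ Subgroup.zpowers (x : H ⧸ Z)
        rw [QuotientGroup.mk_pow]
        exact hcent _ (pow_mem hcT r) (hcx.pow_left r) ⟨m, hom⟩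
    let ι : cyc Z x →* cyc Z x :=
      { toFun := fun d => ⟨n * (d : H) * n⁻¹, hnD d d.2⟩
        map_one' := Subtype.ext (by simp)
        map_mul' := fun a b => Subtype.ext (by simp [mul_assoc]) }
    have hιZ : ∀ d : cyc Z x, (d : H) ∈ Z → ((ι d : cyc Z x) : H) ∈ Z := fun d hd =>
      hZ.conj_mem _ hd n
    have hμν : μ * ν = μ.comp ι * ν := by
      refine twist_unique hθ (le_cyc x) hinv hφ hφres (fun d hd => by simp [hμ d hd, hν d hd])
        (fun d hd => by simp [hμ _ (hιZ d hd), hν d hd]) ?_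
      funext d
      -- both sides are the conjugate of `φ` by `n * y = y * n * c`
      have eL : φ ⟨n * (y * (d : H) * y⁻¹) * n⁻¹, hnD _ (conj_mem_cyc hy d.2)⟩ =
          φ d * (μ d : ℂ) * (ν d : ℂ) := by
        refine (hnφ ⟨_, conj_mem_cyc hy d.2⟩).trans ?_
        rw [hyφ, mu_conj hy hν]
      obtain ⟨hm, hcd⟩ := hcfix d
      have hcc : Commute (c : H ⧸ Z) (x : H ⧸ Z) := hcx
      have eR : φ ⟨y * (n * (c * (d : H) * c⁻¹) * n⁻¹) * y⁻¹,
            conj_mem_cyc hy (hnD _ hm)⟩ = φ d * (ν d : ℂ) * (μ (ι d) : ℂ) := by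
        refine (hyφ ⟨_, hnD _ hm⟩).trans ?_
        rw [show (⟨n * (c * (d : H) * c⁻¹) * n⁻¹, hnD _ hm⟩ : cyc Z x) = ι ⟨_, hm⟩ from rfl,
          show φ (ι ⟨_, hm⟩) = φ ⟨_, hm⟩ * (ν ⟨_, hm⟩ : ℂ) from hnφ ⟨_, hm⟩, hcd]
        have h1 : ν ⟨_, hm⟩ = ν d := mu_conj hcc hν d
        have h2 : (μ.comp ι) ⟨_, hm⟩ = (μ.comp ι) d :=
          mu_conj hcc (μ := μ.comp ι) (fun d hd => hμ _ (hιZ d hd)) d
        simp only [MonoidHom.comp_apply] at h2
        rw [h1, h2]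
      have heq : φ ⟨n * (y * (d : H) * y⁻¹) * n⁻¹, hnD _ (conj_mem_cyc hy d.2)⟩ =
          φ ⟨y * (n * (c * (d : H) * c⁻¹) * n⁻¹) * y⁻¹, conj_mem_cyc hy (hnD _ hm)⟩ :=
        congrArg φ (Subtype.ext (by simp [hc, mul_assoc]))
      rw [eL, eR] at heq
      simp only [Pi.mul_apply, MonoidHom.mul_apply, Units.val_mul, MonoidHom.comp_apply]
      rw [← mul_assoc, heq]; ring
    have hμι : μ = μ.comp ι := mul_right_cancel hμν
    set ζ : ℂˣ := μ ⟨x, mem_cyc_self x⟩ with hζ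
    have hζa : ζ ^ ((a : ℤ) - 1) = 1 := by
      have h1 : μ (ι ⟨x, mem_cyc_self x⟩) = ζ ^ a := by
        rw [hζ, ← map_pow, ← mul_inv_eq_one, ← map_inv, ← map_mul]
        refine hμ _ ?_
        show n * x * n⁻¹ * (((⟨x, mem_cyc_self x⟩ : cyc Z x) ^ a : cyc Z x) : H)⁻¹ ∈ Z
        rw [← QuotientGroup.eq_one_iff, Subgroup.coe_pow]
        simp [hna]
      have h2 : ζ = ζ ^ a := (DFunLike.congr_fun hμι _).trans h1
      rw [zpow_sub, zpow_natCast, zpow_one, ← h2, mul_inv_cancel]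
    have hζk : ζ ^ ((s ^ k : ℕ) : ℤ) = 1 := by
      rw [zpow_natCast, ← hk]
      exact mu_pow_orderOf hμ _
    have hic : IsCoprime ((a : ℤ) - 1) ((s ^ k : ℕ) : ℤ) := by
      rw [Nat.cast_pow]
      exact (((Nat.prime_iff_prime_int.1 hs).coprime_iff_not_dvd).2 ha).symm.pow_right
    obtain ⟨u, v, huv⟩ := hic
    have hζ1 : ζ = 1 := by
      rw [← zpow_one ζ, ← huv, zpow_add, mul_comm u, mul_comm v, zpow_mul, zpow_mul, hζa, hζk,
        one_zpow, one_zpow, one_mul]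
    refine mem_fixSub_of_mu (μ := μ) (fun d hd => conj_mem_cyc hy hd) hyφ (MonoidHom.ext fun d => ?_)
    obtain ⟨i, hi⟩ := (show ((d : H) : H ⧸ Z) ∈ Subgroup.zpowers (x : H ⧸ Z) from d.2)
    have h := hμ (d * ((⟨x, mem_cyc_self x⟩ : cyc Z x) ^ i)⁻¹) (by
      rw [← QuotientGroup.eq_one_iff]
      simp [Subgroup.coe_zpow, ← hi])
    rw [map_mul, map_inv, map_zpow, ← hζ, hζ1, one_zpow, inv_one, mul_one] at h
    exact h
  obtain ⟨g, hg, hgfix⟩ := exists_moved hχ hθ he hres hxZ hφ hφres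
  refine hgfix ?_
  obtain ⟨m, r, -, hmr, hsr, hom, hor⟩ := exists_split s (g : H ⧸ Z)
  refine mem_of_parts hmr ?_ ?_
  · refine mem_fixSub_of_coprime hχ hθ he hres ?_ r ?_ (hcop hsr) hφ hφres
    · rw [QuotientGroup.mk_pow]; exact hg.pow_left _
    · rw [← QuotientGroup.eq_one_iff, QuotientGroup.mk_pow, QuotientGroup.mk_pow]
      exact orderOf_dvd_iff_pow_eq_one.1 hor.dvd
  · refine hprim _ ?_ ⟨m, ?_⟩
    · rw [QuotientGroup.mk_pow]; exact hg.pow_left _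
    · rw [QuotientGroup.mk_pow]; exact hom

end Cfsg.Lib.Char.RamifiedSolvable
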