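import Cfsg.Agent.Lib.Char.RamifiedSolvable.Twist

/-!
# The quotient has no abelian minimal normal subgroup, unless it is solvable
-/

set_option autoImplicit false
set_option linter.unusedSectionVars false
set_option linter.style.haveILetI false
set_option maxHeartbeats 1600000

namespace Cfsg.Lib.Char.RamifiedSolvable

open Cfsg Cfsg.Lib.Char

universe u

/-- The statement for all smaller indices. -/
def IndHyp (n : ℕ) : Prop :=
  ∀ (H : Type u) [Group H] [Fintype H] (Z : Subgroup H) [Z.Normal] [Fintype Z] (χ : H → ℂ)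
    (θ : Z → ℂ) (e : ℕ), IsIrrCharacter H χ → IsIrrCharacter Z θ → e ^ 2 = Z.index →
    (∀ z : Z, χ z = (e : ℂ) * θ z) → AbSylows Z → Z.index < n → Group.IsSolvable (H ⧸ Z)

theorem isSolvable_of_quotient {G : Type u} [Group G] (N : Subgroup G) [N.Normal]
    (h1 : Group.IsSolvable N) (h2 : Group.IsSolvable (G ⧸ N)) : Group.IsSolvable G := by
  haveI := h1; haveI := h2
  exact Group.isSolvable_of_ker_le_range N.subtype (QuotientGroup.mk' N) (by
    rw [QuotientGroup.ker_mk', Subgroup.range_subtype])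

/-- A normal subgroup of prime power order lies in every Sylow subgroup. -/
theorem le_sylow_of_normal {G : Type u} [Group G] [Finite G] {r : ℕ} [Fact r.Prime] {L : Subgroup G}
    [hLn : L.Normal] (hL : IsPGroup r L) (P : Sylow r G) : L ≤ (P : Subgroup G) := by
  obtain ⟨Q, hQ⟩ := hL.exists_le_sylow
  obtain ⟨g, rfl⟩ := MulAction.exists_smul_eq G Q P
  intro x hx
  rw [Sylow.coe_subgroup_smul, Subgroup.mem_pointwise_smul_iff_inv_smul_mem, MulAut.smul_def,
    ← map_inv, MulAut.conj_apply, inv_inv]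
  exact hQ (by simpa using hLn.conj_mem x hx g⁻¹)

variable {H : Type u} [Group H] [Fintype H] {Z : Subgroup H} [hZ : Z.Normal] [Fintype Z]
  {χ : H → ℂ} (hχ : IsIrrCharacter H χ) {θ : Z → ℂ} (hθ : IsIrrCharacter Z θ) {e : ℕ}
  (he : e ^ 2 = Z.index) (hres : ∀ z : Z, χ z = (e : ℂ) * θ z)

include hχ hθ he hres in
theorem solvable_of_abelian_normal (hab : AbSylows Z) (IH : IndHyp.{u} Z.index)
    (L : Subgroup (H ⧸ Z)) [hLn : L.Normal] [hLc : IsMulCommutative L] (hL : L ≠ ⊥)
    (hmin : ∀ M : Subgroup (H ⧸ Z), M.Normal → M ≤ L → M ≠ ⊥ → M = L) :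
    Group.IsSolvable (H ⧸ Z) := by
  classical
  letI : CommGroup L :=
    { (inferInstance : Group L) with mul_comm := IsMulCommutative.is_comm.comm }
  set B : Subgroup H := pre L with hBdef
  haveI : B.Normal := hLn.comap _
  haveI : Fintype B := Fintype.ofFinite _
  have hZB : Z ≤ B := le_pre L
  obtain ⟨ψ, hψ, hψθ⟩ := exists_over hχ hθ he hres (B := B) hZB
  set T := inertia B ψ with hT
  have hBT : B ≤ T := le_inertia B hψ.isClassFunction
  haveI : Fintype T := Fintype.ofFinite _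
  haveI : Fintype (B.subgroupOf T) := Fintype.ofFinite _
  haveI : (B.subgroupOf T).Normal := Subgroup.Normal.subgroupOf inferInstance T
  -- the inertia group has solvable image
  obtain ⟨ξ, d, hξ, hd, hξres⟩ := exists_inertia_ramified hχ hθ he hres hZB hψ hψθ
  have hlt : (B.subgroupOf T).index < Z.index := by
    have h1 : (B.subgroupOf T).index ≤ B.index :=
      Nat.le_of_dvd (Nat.pos_of_ne_zero Subgroup.index_ne_zero_of_finite)
        (Subgroup.relIndex_mul_index hBT ▸ dvd_mul_right _ _)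
    refine lt_of_le_of_lt h1 (Subgroup.index_strictAnti (lt_of_le_of_ne hZB fun hZeq => hL ?_))
    rw [eq_bot_iff]
    intro q hq
    obtain ⟨h, rfl⟩ := QuotientGroup.mk_surjective q
    rw [Subgroup.mem_bot, QuotientGroup.eq_one_iff, hZeq]
    exact hq
  haveI hsB := IH T (B.subgroupOf T) ξ (resTo B ψ T) d hξ (isIrrCharacter_resTo B hψ hBT) hd
    hξres (hab.inertia hZB hBT) hlt
  set Tb : Subgroup (H ⧸ Z) := T.map (QuotientGroup.mk' Z) with hTb
  have hLT : L ≤ Tb := fun q hq => by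
    obtain ⟨h, rfl⟩ := QuotientGroup.mk_surjective q
    exact ⟨h, hBT hq, rfl⟩
  haveI hTs : Group.IsSolvable Tb := by
    haveI : (L.subgroupOf Tb).Normal := Subgroup.Normal.subgroupOf inferInstance Tb
    let f : T ⧸ B.subgroupOf T →* Tb ⧸ L.subgroupOf Tb :=
      QuotientGroup.map _ _ (((QuotientGroup.mk' Z).comp T.subtype).codRestrict Tb
        (fun t => ⟨t, t.2, rfl⟩)) (fun x hx => hx)
    have hf : Function.Surjective f := fun q => by
      obtain ⟨⟨_, t, ht, rfl⟩, rfl⟩ := QuotientGroup.mk_surjective q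
      exact ⟨((⟨t, ht⟩ : T) : T ⧸ B.subgroupOf T), rfl⟩
    refine isSolvable_of_quotient (L.subgroupOf Tb) ?_ (Group.isSolvable_of_surjective hf)
    haveI : Group.IsSolvable L := Group.isSolvable_of_comm hLc.is_comm.comm
    exact Group.isSolvable_of_isSolvable_injective (f := (Subgroup.subgroupOfEquivOfLe hLT).toMonoidHom)
      (Subgroup.subgroupOfEquivOfLe hLT).injective
  -- characters over `θ` are twists and conjugates of `ψ`
  have hconj : ∀ h : H, ∃ l : L →* ℂˣ, conjTwist B ψ h = tw ψ l := fun h =>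
    exists_tw hχ hθ he hres hψ hψθ (isIrrCharacter_conjTwist B hψ h)
      ((over_conjTwist hχ he hres hZB h).trans_ne hψθ)
  have horb : ∀ l : L →* ℂˣ, ∃ h : H, conjTwist B ψ h = tw ψ l := fun l => by
    refine (mem_twistOrbit B).1 (mem_twistOrbit_of_constituent B hχ hψ (isIrrCharacter_tw hψ l)
      (constituent_of_over hχ hθ he hres hZB hψ hψθ)
      (constituent_of_over hχ hθ he hres hZB (isIrrCharacter_tw hψ l) ?_))
    exact (congrArg (fun f => classInner f θ) (tw_over l)).trans_ne hψθ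
  -- invariant groups of characters are trivial
  have hinvS : ∀ S : Subgroup (L →* ℂˣ),
      (∀ g : H ⧸ Z, ∀ l ∈ S, l.comp (MulAut.conjNormal g).toMonoidHom ∈ S) → S = ⊥ ∨ S = ⊤ := by
    intro S hS
    let K : Subgroup (H ⧸ Z) :=
      { carrier := {q | ∃ hq : q ∈ L, ∀ l ∈ S, l ⟨q, hq⟩ = 1}
        one_mem' := ⟨one_mem L, fun l _ => map_one l⟩
        mul_mem' := fun {a b} ha hb => ⟨mul_mem ha.1 hb.1, fun l hl => by
          show l (⟨a, ha.1⟩ * ⟨b, hb.1⟩) = 1
          rw [map_mul, ha.2 l hl, hb.2 l hl, one_mul]⟩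
        inv_mem' := fun {a} ha => ⟨inv_mem ha.1, fun l hl => by
          show l (⟨a, ha.1⟩⁻¹) = 1
          rw [map_inv, ha.2 l hl, inv_one]⟩ }
    have hKn : K.Normal := ⟨fun q hq g => ⟨hLn.conj_mem q hq.1 g, fun l hl => hq.2 _ (hS g l hl)⟩⟩
    by_cases hK : K = ⊥
    · exact Or.inr (eq_top_of_separates fun a ha => Subtype.ext
        (Subgroup.mem_bot.1 (hK ▸ (show (a : H ⧸ Z) ∈ K from ⟨a.2, ha⟩))))
    · have hKL := hmin K hKn (fun q hq => hq.1) hK
      exact Or.inl ((Subgroup.eq_bot_iff_forall S).2 fun l hl => MonoidHom.ext fun a => by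
        obtain ⟨_, h⟩ := (hKL.ge a.2 : (a : H ⧸ Z) ∈ K)
        exact h l hl)
  have hconjproj : ∀ (h : H) (b : B), (MulAut.conjNormal (h : H ⧸ Z)) (proj L b) =
      proj L (MulAut.conjNormal h b) := fun h b => Subtype.ext rfl
  have hstab : ∀ g : H ⧸ Z, ∀ l ∈ twistStab ψ,
      l.comp (MulAut.conjNormal g).toMonoidHom ∈ twistStab ψ := by
    intro g l hl
    obtain ⟨h, rfl⟩ := QuotientGroup.mk_surjective g
    obtain ⟨ν, hν⟩ := hconj h
    funext b
    have e1 : ψ (MulAut.conjNormal h b) = ψ b * (ν (proj L b) : ℂ) := congrFun hν b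
    have e2 := congrFun (show tw ψ l = ψ from hl) (MulAut.conjNormal h b)
    simp only [tw, ← hconjproj h b] at e2
    simp only [tw, MonoidHom.comp_apply, MulEquiv.coe_toMonoidHom]
    rw [e1] at e2
    refine mul_right_cancel₀ (Units.ne_zero (ν (proj L b))) ?_
    calc ψ b * ((l ((MulAut.conjNormal (h : H ⧸ Z)) (proj L b)) : ℂˣ) : ℂ) * (ν (proj L b) : ℂ)
        = ψ b * (ν (proj L b) : ℂ) * ((l ((MulAut.conjNormal (h : H ⧸ Z)) (proj L b)) : ℂˣ) : ℂ) := by
          ring
      _ = _ := e2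
  rcases hinvS _ hstab with hfree | hall
  swap
  · -- `ψ` is invariant
    have hTtop : T = ⊤ := eq_top_iff.2 fun h _ => (mem_inertia B).2 (by
      obtain ⟨l, hl⟩ := hconj h
      rw [hl]
      exact hall.ge (Subgroup.mem_top l))
    have hTbtop : Tb = ⊤ := by
      rw [hTb, hTtop, Subgroup.map_top_of_surjective _ (QuotientGroup.mk'_surjective Z)]
    exact Group.isSolvable_of_surjective (f := Tb.subtype)
      (fun q => ⟨⟨q, hTbtop ▸ Subgroup.mem_top q⟩, rfl⟩)
  -- the stabilizer has index `|L|`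
  have hindex : T.index = Nat.card L := by
    rw [← card_twistOrbit, ← card_monoidHom_units L]
    have hset : ((twistOrbit B ψ : Finset (B → ℂ)) : Set (B → ℂ)) = Set.range (tw ψ) := by
      ext f
      rw [Finset.mem_coe, mem_twistOrbit]
      constructor
      · rintro ⟨h, rfl⟩
        obtain ⟨l, hl⟩ := hconj h
        exact ⟨l, hl.symm⟩
      · rintro ⟨l, rfl⟩
        exact horb l
    rw [← Nat.card_range_of_injective (tw_injective hfree), ← Set.ncard_coe_finset, hset,
      Nat.card_coe_set_eq]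
  -- the centralizer of `L`
  set C : Subgroup (H ⧸ Z) := Subgroup.centralizer (L : Set (H ⧸ Z)) with hC
  haveI : C.Normal := inferInstance
  have hZT : ∀ {h h' : H}, (h : H ⧸ Z) = h' → conjTwist B ψ h = conjTwist B ψ h' := by
    intro h h' heq
    have hm : h * h'⁻¹ ∈ Z := by
      rw [← QuotientGroup.eq_one_iff, QuotientGroup.mk_mul, QuotientGroup.mk_inv, heq, mul_inv_cancel]
    rw [← inv_mul_cancel_right h h', ← conjTwist_conjTwist,
      (mem_inertia B).1 (hBT (hZB hm))]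
  have hfun : ∀ c : C, ∃ l : L →* ℂˣ, ∀ h : H, (h : H ⧸ Z) = c → conjTwist B ψ h = tw ψ l := by
    intro c
    obtain ⟨h₀, hh₀⟩ := QuotientGroup.mk_surjective (c : H ⧸ Z)
    obtain ⟨l, hl⟩ := hconj h₀
    exact ⟨l, fun h hh => (hZT (hh.trans hh₀.symm)).trans hl⟩
  choose lam hlam using hfun
  have hprojfix : ∀ (h : H), (h : H ⧸ Z) ∈ C → ∀ b : B,
      proj L (MulAut.conjNormal h b) = proj L b := by
    intro h hh b
    rw [← hconjproj]
    exact Subtype.ext (by
      rw [MulAut.conjNormal_apply, ← Subgroup.mem_centralizer_iff.1 hh _ (proj L b).2,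
        mul_inv_cancel_right])
  let Λ : C →* (L →* ℂˣ) := MonoidHom.mk' lam (by
    intro c₁ c₂
    obtain ⟨h₁, hh₁⟩ := QuotientGroup.mk_surjective (c₁ : H ⧸ Z)
    obtain ⟨h₂, hh₂⟩ := QuotientGroup.mk_surjective (c₂ : H ⧸ Z)
    refine tw_injective hfree ?_
    rw [← hlam (c₁ * c₂) (h₁ * h₂) (by rw [QuotientGroup.mk_mul, hh₁, hh₂]; rfl), ← conjTwist_conjTwist]
    funext b
    have e2 : ψ (MulAut.conjNormal h₂ b) = ψ b * (lam c₂ (proj L b) : ℂ) :=
      congrFun (hlam c₂ h₂ hh₂) b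
    show conjTwist B ψ h₁ (MulAut.conjNormal h₂ b) = _
    rw [congrFun (hlam c₁ h₁ hh₁) _]
    simp only [tw]
    rw [hprojfix h₂ (hh₂ ▸ c₂.2) b, e2, MonoidHom.mul_apply, Units.val_mul]
    ring)
  have hLam : ∀ (c : C) (h : H), (h : H ⧸ Z) = c → conjTwist B ψ h = tw ψ (Λ c) := hlam
  -- the centralizer is solvable
  haveI hCs : Group.IsSolvable C := by
    have hker : ∀ c ∈ Λ.ker, (c : H ⧸ Z) ∈ Tb := by
      intro c hc
      obtain ⟨h, hh⟩ := QuotientGroup.mk_surjective (c : H ⧸ Z)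
      refine ⟨h, (mem_inertia B).2 ?_, hh⟩
      rw [hLam c h hh, MonoidHom.mem_ker.1 hc, tw_one]
    haveI : Group.IsSolvable (L →* ℂˣ) := Group.isSolvable_of_comm fun a b => MonoidHom.ext fun x => mul_comm (a x) (b x)
    let ι : Λ.ker →* Tb := (C.subtype.comp Λ.ker.subtype).codRestrict Tb fun c => hker c c.2
    haveI : Group.IsSolvable Λ.ker := Group.isSolvable_of_isSolvable_injective (f := ι) (fun a b h => by
      have h1 := congrArg Subtype.val h
      exact Subtype.ext (Subtype.ext h1))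
    exact Group.isSolvable_of_ker_le_range Λ.ker.subtype Λ (by rw [Subgroup.range_subtype])
  -- the image of `Λ` is invariant
  have hrange : ∀ g : H ⧸ Z, ∀ l ∈ Λ.range,
      l.comp (MulAut.conjNormal g).toMonoidHom ∈ Λ.range := by
    rintro g _ ⟨c, rfl⟩
    obtain ⟨h, rfl⟩ := QuotientGroup.mk_surjective g
    obtain ⟨hc, hhc⟩ := QuotientGroup.mk_surjective (c : H ⧸ Z)
    obtain ⟨ν, hν⟩ := hconj h⁻¹
    refine ⟨⟨(h : H ⧸ Z)⁻¹ * c * h, by
      simpa using (inferInstance : C.Normal).conj_mem _ c.2 (h : H ⧸ Z)⁻¹⟩, tw_injective hfree ?_⟩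
    rw [← hLam _ (h⁻¹ * hc * h) (by simp [hhc]), ← conjTwist_conjTwist, ← conjTwist_conjTwist]
    funext b
    set b' := MulAut.conjNormal h b with hb'
    have e1 : conjTwist B ψ h⁻¹ (MulAut.conjNormal hc b') =
        ψ b' * (Λ c (proj L b') : ℂ) * (ν (proj L b') : ℂ) := by
      rw [hν]
      simp only [tw]
      rw [hprojfix hc (hhc ▸ c.2) b']
      have e2 : ψ (MulAut.conjNormal hc b') = ψ b' * (Λ c (proj L b') : ℂ) :=
        congrFun (hLam c hc hhc) b'
      rw [e2]
    have e3 : ψ b = ψ b' * (ν (proj L b') : ℂ) := by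
      have e4 : ψ (MulAut.conjNormal h⁻¹ b') = ψ b' * (ν (proj L b') : ℂ) := congrFun hν b'
      rw [← e4, hb']
      exact congrArg ψ (Subtype.ext (by simp [MulAut.conjNormal_apply, mul_assoc]))
    show conjTwist B ψ h⁻¹ (MulAut.conjNormal hc (MulAut.conjNormal h b)) = _
    rw [← hb', e1]
    simp only [tw, MonoidHom.comp_apply, MulEquiv.coe_toMonoidHom]
    rw [e3, hconjproj, ← hb']
    ring
  rcases hinvS _ hrange with htriv | htrans
  swap
  · -- the centralizer is transitive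
    have hgen : ∀ q : H ⧸ Z, ∃ c ∈ C, q * c⁻¹ ∈ Tb := by
      intro q
      obtain ⟨h, rfl⟩ := QuotientGroup.mk_surjective q
      obtain ⟨l, hl⟩ := hconj h
      obtain ⟨c, hc⟩ := htrans.ge (Subgroup.mem_top l)
      obtain ⟨k, hk⟩ := QuotientGroup.mk_surjective (c : H ⧸ Z)
      refine ⟨c, c.2, h * k⁻¹, (mem_inertia B).2 ?_, by simp [hk]⟩
      rw [← conjTwist_conjTwist, hl, ← hc, ← hLam c k hk, conjTwist_conjTwist, mul_inv_cancel,
        conjTwist_one]
    refine isSolvable_of_quotient C hCs (Group.isSolvable_of_surjective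
      (f := (QuotientGroup.mk' C).comp Tb.subtype) fun q => ?_)
    obtain ⟨q, rfl⟩ := QuotientGroup.mk_surjective q
    obtain ⟨c, hc, hqc⟩ := hgen q
    refine ⟨⟨_, hqc⟩, ?_⟩
    show ((q * c⁻¹ : H ⧸ Z) : (H ⧸ Z) ⧸ C) = q
    rw [QuotientGroup.mk_mul, QuotientGroup.mk_inv, (QuotientGroup.eq_one_iff c).2 hc, inv_one,
      mul_one]
  -- the centralizer fixes every character, so automorphisms of `L` must be too many
  exfalso
  have hCT : C ≤ Tb := by
    intro c hc
    obtain ⟨h, rfl⟩ := QuotientGroup.mk_surjective c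
    refine ⟨h, (mem_inertia B).2 ?_, rfl⟩
    rw [hLam ⟨_, hc⟩ h rfl, show Λ ⟨_, hc⟩ = 1 from
      Subgroup.mem_bot.1 (htriv.le ⟨⟨_, hc⟩, rfl⟩), tw_one]
  have hTbidx : Tb.index = Nat.card L := by
    rw [hTb, Subgroup.index_map_eq _ (QuotientGroup.mk'_surjective Z) (by
      rw [QuotientGroup.ker_mk']; exact hZB.trans hBT), hindex]
  have hCidx : Nat.card L ∣ C.index := hTbidx ▸ Subgroup.index_dvd_of_le hCT
  obtain ⟨r, hr, hrdvd⟩ := Nat.exists_prime_and_dvd
    (show Nat.card L ≠ 1 by rw [Ne, Subgroup.card_eq_one]; exact hL)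
  haveI := Fact.mk hr
  -- `L` has exponent `r`
  have hexp : ∀ x ∈ L, x ^ r = 1 := by
    let Ω : Subgroup (H ⧸ Z) :=
      { carrier := {x | x ∈ L ∧ x ^ r = 1}
        one_mem' := ⟨one_mem L, one_pow r⟩
        mul_mem' := fun {a b} ha hb => ⟨mul_mem ha.1 hb.1, by
          have hab : Commute a b :=
            congrArg Subtype.val (hLc.is_comm.comm (⟨a, ha.1⟩ : L) ⟨b, hb.1⟩)
          rw [hab.mul_pow, ha.2, hb.2, one_mul]⟩
        inv_mem' := fun {a} ha => ⟨inv_mem ha.1, by rw [inv_pow, ha.2, inv_one]⟩ }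
    have hΩn : Ω.Normal := ⟨fun x hx g => ⟨hLn.conj_mem x hx.1 g, by rw [conj_pow, hx.2]; simp⟩⟩
    obtain ⟨x, hx⟩ := exists_prime_orderOf_dvd_card' r hrdvd
    have hΩ := hmin Ω hΩn (fun x hx => hx.1) (fun h => by
      have hxΩ : (x : H ⧸ Z) ∈ Ω := ⟨x.2, by
        rw [← hx, ← Subgroup.coe_pow, pow_orderOf_eq_one, Subgroup.coe_one]⟩
      rw [h, Subgroup.mem_bot, OneMemClass.coe_eq_one] at hxΩ
      rw [hxΩ, orderOf_one] at hx
      exact hr.ne_one hx.symm)
    exact fun y hy => (hΩ.ge hy).2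
  have hLp : IsPGroup r L := fun x => ⟨1, by
    rw [pow_one]
    exact Subtype.ext (by simpa using hexp x x.2)⟩
  obtain ⟨l, hl⟩ := IsPGroup.iff_card.1 hLp
  have hl1 : 1 ≤ l := by
    rcases Nat.eq_zero_or_pos l with h | h
    · rw [h, pow_zero, Subgroup.card_eq_one] at hl
      exact absurd hl hL
    · exact h
  obtain ⟨P⟩ := (inferInstance : Nonempty (Sylow r (H ⧸ Z)))
  by_cases hPc : IsMulCommutative P
  · have hPC : (P : Subgroup (H ⧸ Z)) ≤ C := fun x hx => Subgroup.mem_centralizer_iff.2 fun y hy =>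
      congrArg Subtype.val
        (hPc.is_comm.comm (⟨y, le_sylow_of_normal hLp P hy⟩ : (P : Subgroup (H ⧸ Z))) ⟨x, hx⟩)
    exact P.not_dvd_index (hrdvd.trans (hCidx.trans (Subgroup.index_dvd_of_le hPC)))
  · have hl2 : l ≤ 2 := by
      by_contra hl3
      have h1 : (r ^ l) ^ 2 ∣ e ^ 2 := by
        rw [he, Subgroup.index_eq_card, ← Tb.index_mul_card, hTbidx, hl, pow_two]
        exact Nat.mul_dvd_mul_left _ (hl ▸ Subgroup.card_dvd_of_le hLT)
      refine hPc (hab r hr ?_ P)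
      rw [← he, show (6 : ℕ) = 3 * 2 from rfl, pow_mul]
      exact pow_dvd_pow_of_dvd
        ((pow_dvd_pow r (by omega : 3 ≤ l)).trans ((Nat.pow_dvd_pow_iff (by norm_num)).1 h1)) 2
    let ρ : (H ⧸ Z) →* MulAut L := MulAut.conjNormal
    have hker : ρ.ker ≤ C := fun g hg => Subgroup.mem_centralizer_iff.2 fun y hy => by
      have h1 : g * y * g⁻¹ = y := by
        have := congrArg (fun f : MulAut L => ((f ⟨y, hy⟩ : L) : H ⧸ Z)) (MonoidHom.mem_ker.1 hg)
        simpa [ρ, MulAut.conjNormal_apply] using this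
      exact (mul_inv_eq_iff_eq_mul.1 h1).symm
    refine not_dvd_card_mulAut hl hl1 hl2 ρ.range ?_
    rw [← Subgroup.index_ker, ← hl]
    exact hCidx.trans (Subgroup.index_dvd_of_le hker)

end Cfsg.Lib.Char.RamifiedSolvable
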