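import Cfsg.Agent.S0516
import Cfsg.Agent.S1248
import Cfsg.Agent.S3309
import Cfsg.Agent.Lib.Invol.Basic

/-!
# No simple group has a nonabelian Sylow two-subgroup of order sixteen and exponent four
-/

set_option autoImplicit false
set_option linter.unusedSectionVars false
set_option linter.style.haveILetI false

namespace Cfsg.Lib.Char.RamifiedSolvable

open Cfsg

universe u

/-- A nonabelian group of order `16` split by an elementary group of order `8` is `2 × D₈`. -/
theorem two_times_dihedral {P : Type u} [Group P] [Finite P] (h16 : Nat.card P = 16)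
    (hna : ¬ IsMulCommutative P) (E : Subgroup P) (hE8 : Nat.card E = 8)
    (hE2 : ∀ a ∈ E, a * a = 1) (hEc : IsMulCommutative E) (h8 : ∀ x : P, x ^ 4 = 1)
    {w : P} (hwE : w ∉ E) (hw : w * w = 1) :
    Nonempty (P ≃* Multiplicative (ZMod 2) × DihedralGroup 4) := by
  classical
  have hidx : E.index = 2 := by
    have h := E.card_mul_index
    rw [hE8, h16] at h
    omega
  haveI := Subgroup.normal_of_index_eq_two hidx
  letI : CommGroup E := { (inferInstance : Group E) with mul_comm := hEc.is_comm.comm }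
  have hc : ∀ a b : P, a ∈ E → b ∈ E → a * b = b * a := fun a b ha hb =>
    congrArg Subtype.val (hEc.is_comm.comm (⟨a, ha⟩ : E) ⟨b, hb⟩)
  have hwi : w⁻¹ = w := inv_eq_of_mul_eq_one_right hw
  have hconj : ∀ a ∈ E, w * a * w ∈ E := fun a ha => by
    have := (inferInstance : E.Normal).conj_mem a ha w
    rwa [hwi] at this
  let th : E →* E := MonoidHom.mk' (fun a => ⟨a * (w * a * w), mul_mem a.2 (hconj a a.2)⟩) (by
    intro a b
    refine Subtype.ext ?_
    show (a : P) * b * (w * (a * b) * w) = a * (w * a * w) * (b * (w * b * w))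
    have e : w * ((a : P) * b) * w = (w * a * w) * (w * b * w) := by
      calc w * ((a : P) * b) * w = w * a * (1 : P) * b * w := by group
        _ = w * a * (w * w) * b * w := by rw [hw]
        _ = _ := by group
    rw [e]
    have e2 := hc _ _ (hconj a a.2) b.2
    calc (a : P) * b * (w * a * w * (w * b * w)) = a * ((b : P) * (w * a * w)) * (w * b * w) := by
          group
      _ = a * ((w * a * w) * b) * (w * b * w) := by rw [e2]
      _ = _ := by group)
  have hker : ∀ a : E, a ∈ th.ker ↔ w * (a : P) * w = a := by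
    intro a
    rw [MonoidHom.mem_ker]
    show (⟨_, _⟩ : E) = 1 ↔ _
    rw [Subtype.ext_iff]
    show (a : P) * (w * a * w) = 1 ↔ _
    constructor
    · intro h
      exact (mul_left_cancel (h.trans (hE2 a a.2).symm))
    · intro h
      rw [h]; exact hE2 a a.2
  have himker : th.range ≤ th.ker := by
    rintro _ ⟨a, rfl⟩
    rw [hker]
    show w * ((a : P) * (w * a * w)) * w = a * (w * a * w)
    calc w * ((a : P) * (w * a * w)) * w = (w * a * w) * a * (w * w) := by group
      _ = (w * a * w) * a := by rw [hw, mul_one]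
      _ = _ := hc _ _ (hconj a a.2) a.2
  have hmul : Nat.card th.ker * Nat.card th.range = 8 := by
    rw [← hE8, ← Subgroup.card_mul_index th.ker, Subgroup.index_ker]
  have hle : Nat.card th.range ≤ Nat.card th.ker := Subgroup.card_le_of_le himker
  obtain ⟨e, he⟩ : ∃ e : E, e ∉ th.ker := by
    by_contra hall
    push Not at hall
    refine hna ⟨⟨fun a b => ?_⟩⟩
    have hwc : ∀ a ∈ E, w * a = a * w := fun a ha => by
      have := (hker ⟨a, ha⟩).1 (hall _)
      calc w * a = w * a * (w * w) := by rw [hw, mul_one]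
        _ = (w * a * w) * w := by group
        _ = a * w := by rw [this]
    have hcase : ∀ x : P, x ∈ E ∨ x * w ∈ E := fun x => by
      by_cases hx : x ∈ E
      · exact Or.inl hx
      · exact Or.inr ((Subgroup.mul_mem_iff_of_index_two hidx).2 (iff_of_false hx hwE))
    have hwall : ∀ x : P, w * x = x * w := by
      intro x
      rcases hcase x with hx | hx
      · exact hwc x hx
      · have h1 := hwc _ hx
        have h2 : w * x * w = x * w * w := by simpa [mul_assoc] using h1
        exact mul_right_cancel h2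
    have hEall : ∀ a ∈ E, ∀ x : P, a * x = x * a := by
      intro a ha x
      rcases hcase x with hx | hx
      · exact hc a x ha hx
      · have h1 := hc a _ ha hx
        calc a * x = a * (x * w) * w := by rw [mul_assoc a, mul_assoc x, hw, mul_one]
          _ = x * w * a * w := by rw [h1]
          _ = x * (w * a) * w := by group
          _ = x * (a * w) * w := by rw [hwc a ha]
          _ = _ := by rw [mul_assoc x, mul_assoc a, hw, mul_one]
    rcases hcase a with ha | ha
    · exact hEall a ha b
    · have h1 := hEall _ ha b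
      calc a * b = a * (b * w * w) := by rw [mul_assoc b, hw, mul_one]
        _ = a * (w * (b * w)) := by rw [hwall (b * w)]
        _ = a * w * (b * w) := by group
        _ = a * w * b * w := by group
        _ = b * (a * w) * w := by rw [h1]
        _ = _ := by rw [mul_assoc b, mul_assoc a, hw, mul_one]
  set z : P := ((th e : E) : P) with hz
  have hz1 : z ≠ 1 := fun h => he (MonoidHom.mem_ker.2 (Subtype.ext h))
  obtain ⟨c, hcker, hc1, hcz⟩ : ∃ c : E, c ∈ th.ker ∧ c ≠ 1 ∧ (c : P) ≠ z := by
    by_contra hall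
    push Not at hall
    have hsub : (th.ker : Set E) ⊆ {1, th e} := fun c hc => by
      by_cases h : c = 1
      · exact Or.inl h
      · exact Or.inr (Subtype.ext (hall c hc h))
    have h1 := Set.ncard_le_ncard hsub (Set.toFinite _)
    have h2 : ({1, th e} : Set E).ncard ≤ 2 := (Set.ncard_insert_le _ _).trans (by simp)
    rw [← Nat.card_coe_set_eq] at h1
    have h3 : Nat.card th.ker ≤ 2 := h1.trans h2
    nlinarith
  have hr4 : ((e : P) * w) ^ 4 = 1 := h8 _
  have hinv : w * ((e : P) * w) * w⁻¹ = ((e : P) * w)⁻¹ := by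
    rw [_root_.mul_inv_rev, hwi, inv_eq_of_mul_eq_one_right (hE2 _ e.2), mul_assoc, mul_assoc, hw,
      mul_one]
  let f : DihedralGroup 4 →* P := Cfsg.Lib.Invol.dihedralHom 4 hr4 hw hinv
  let g : Multiplicative (ZMod 2) →* P :=
    AddMonoidHom.toMultiplicativeLeft (ZMod.lift 2
      ⟨AddMonoidHom.mk' (fun i : ℤ => Additive.ofMul ((c : P) ^ i)) (fun a b => by
        rw [zpow_add]; rfl), by
        show Additive.ofMul ((c : P) ^ ((2 : ℕ) : ℤ)) = 0
        rw [zpow_natCast, pow_two, hE2 _ c.2]; rfl⟩)
  have hgc : ∀ i, ∃ k : ℤ, g i = (c : P) ^ k := fun i => by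
    obtain ⟨k, hk⟩ := ZMod.intCast_surjective (n := 2) (Multiplicative.toAdd i)
    refine ⟨k, ?_⟩
    show Additive.toMul (ZMod.lift 2 _ (Multiplicative.toAdd i)) = _
    rw [← hk, ZMod.lift_coe]
    rfl
  have hcw : Commute (c : P) w := by
    have := (hker c).1 hcker
    show (c : P) * w = w * c
    calc (c : P) * w = (w * c * w) * w := by rw [this]
      _ = w * c * (w * w) := by group
      _ = _ := by rw [hw, mul_one]
  have hcr : Commute (c : P) ((e : P) * w) :=
    (show Commute (c : P) (e : P) from hc _ _ c.2 e.2).mul_right hcw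
  have hfe : ∀ d, ∃ (i : ℤ) (j : Bool), f d = (if j then w else 1) * ((e : P) * w) ^ i := by
    intro d
    rcases d with i | i
    · exact ⟨_, false, by rw [Cfsg.Lib.Invol.dihedralHom_r]; simp; rfl⟩
    · exact ⟨_, true, by rw [Cfsg.Lib.Invol.dihedralHom_sr]; simp; rfl⟩
  let F : Multiplicative (ZMod 2) × DihedralGroup 4 →* P :=
    MonoidHom.noncommCoprod g f (fun i d => by
      obtain ⟨k, hk⟩ := hgc i
      obtain ⟨a, j, hd⟩ := hfe d
      rw [hk, hd]
      refine (Commute.mul_right ?_ (hcr.zpow_right a)).zpow_left k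
      cases j
      · simp
      · simpa using hcw)
  have hFg : g (Multiplicative.ofAdd 1) = c := by
    show Additive.toMul (ZMod.lift 2 _ (1 : ZMod 2)) = _
    rw [← Int.cast_one (R := ZMod 2), ZMod.lift_coe]
    simp
  have hFw : f (DihedralGroup.sr 0) = w := by
    rw [Cfsg.Lib.Invol.dihedralHom_sr]; simp
  have hFr : f (DihedralGroup.r 1) = (e : P) * w := by
    rw [Cfsg.Lib.Invol.dihedralHom_r]
    have : ((1 : ZMod 4).cast : ℤ) = 1 := rfl
    rw [this, zpow_one]
  set K := F.range
  have hcK : (c : P) ∈ K := ⟨(Multiplicative.ofAdd 1, 1), by simp [F, hFg]⟩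
  have hwK : w ∈ K := ⟨(1, DihedralGroup.sr 0), by simp [F, hFw]⟩
  have heK : (e : P) ∈ K := by
    have h1 : (e : P) * w ∈ K := ⟨(1, DihedralGroup.r 1), by simp [F, hFr]⟩
    have := mul_mem h1 hwK
    rwa [mul_assoc, hw, mul_one] at this
  have hzK : z ∈ K := mul_mem heK (mul_mem (mul_mem hwK heK) hwK)
  have hEK : E ≤ K := by
    have hkK : th.ker ≤ K.subgroupOf E := by
      have hk4 : Nat.card th.ker ≤ 4 := by
        have h2 : 2 ≤ Nat.card th.range := by
          refine (Finite.one_lt_card_iff_nontrivial).2 ⟨⟨1, one_mem _⟩, ⟨th e, e, rfl⟩, fun h => hz1 ?_⟩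
          exact congrArg Subtype.val (congrArg Subtype.val h).symm
        nlinarith
      have hcz' : c * th e ∈ th.ker := mul_mem hcker (himker ⟨e, rfl⟩)
      have hsub : ({1, c, th e, c * th e} : Set E) ⊆ th.ker := by
        rintro x (rfl | rfl | rfl | rfl)
        · exact one_mem _
        · exact hcker
        · exact himker ⟨e, rfl⟩
        · exact hcz'
      have hne : th e ≠ 1 := fun h => hz1 (congrArg Subtype.val h)
      have hce : c ≠ th e := fun h => hcz (congrArg Subtype.val h)
      have hcc : c⁻¹ = c := inv_eq_of_mul_eq_one_right (Subtype.ext (hE2 _ c.2))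
      have hcard : ({1, c, th e, c * th e} : Set E).ncard = 4 := by
        rw [Set.ncard_insert_of_notMem, Set.ncard_insert_of_notMem, Set.ncard_insert_of_notMem,
          Set.ncard_singleton]
        · rintro (h : th e = c * th e)
          exact hc1 (mul_eq_right.1 h.symm)
        · rintro (h | h)
          · exact hce h
          · exact hne (mul_eq_left.1 (Set.mem_singleton_iff.1 h).symm)
        · rintro (h | h | h)
          · exact hc1 h.symm
          · exact hne h.symm
          · have h' : c * th e = 1 := (Set.mem_singleton_iff.1 h).symm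
            exact hce ((inv_eq_of_mul_eq_one_right h') ▸ hcc.symm)
      have heq : ({1, c, th e, c * th e} : Set E) = th.ker := by
        refine Set.eq_of_subset_of_ncard_le hsub ?_ (Set.toFinite _)
        rw [hcard, ← Nat.card_coe_set_eq]
        exact hk4
      intro x hx
      rw [Subgroup.mem_subgroupOf]
      rcases (heq.ge hx : x ∈ ({1, c, th e, c * th e} : Set E)) with rfl | rfl | rfl | rfl
      · exact one_mem _
      · exact hcK
      · exact hzK
      · exact mul_mem hcK hzK
    have hlt : th.ker < K.subgroupOf E := lt_of_le_of_ne hkK fun h => he (h ▸ heK)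
    have h4 : 4 ≤ Nat.card th.ker := by
      rcases Nat.lt_or_ge (Nat.card th.ker) 3 with h | h
      · nlinarith
      · have := (hmul ▸ dvd_mul_right (Nat.card th.ker) _ : Nat.card th.ker ∣ 8)
        by_contra h'
        interval_cases (Nat.card th.ker)
        norm_num at this
    have h5 : 4 < Nat.card (K.subgroupOf E) := by
      have := Set.ncard_lt_ncard (SetLike.coe_ssubset_coe.2 hlt) (Set.toFinite _)
      rw [← Nat.card_coe_set_eq, ← Nat.card_coe_set_eq] at this
      exact lt_of_le_of_lt h4 this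
    have h6 : Nat.card (K.subgroupOf E) ∣ 8 := hE8 ▸ (K.subgroupOf E).card_subgroup_dvd_card
    have h7 : Nat.card (K.subgroupOf E) = 8 := by
      have := Nat.le_of_dvd (by norm_num) h6
      revert h6
      interval_cases (Nat.card (K.subgroupOf E)) <;> norm_num
    have h8' : K.subgroupOf E = ⊤ := Subgroup.eq_top_of_card_eq _ (by rw [h7, hE8])
    intro x hx
    exact Subgroup.mem_subgroupOf.1 (h8'.ge (Subgroup.mem_top (⟨x, hx⟩ : E)))
  have hsurj : Function.Surjective F := by
    intro x
    by_cases hx : x ∈ E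
    · exact hEK hx
    · have hxw : x * w ∈ E :=
        (Subgroup.mul_mem_iff_of_index_two hidx).2 (iff_of_false hx hwE)
      have := mul_mem (hEK hxw) hwK
      rwa [mul_assoc, hw, mul_one] at this
  refine ⟨(MulEquiv.ofBijective F ?_).symm⟩
  refine (Nat.bijective_iff_surjective_and_card _).2 ⟨hsurj, ?_⟩
  rw [Nat.card_prod, Nat.card_congr Multiplicative.toAdd, Nat.card_zmod, DihedralGroup.nat_card, h16]

/-- Transfer: all involutions in an elementary abelian maximal subgroup. -/
theorem false_of_omega {G : Type u} [Group G] [Finite G] [IsSimpleGroup G]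
    (hG : ¬ IsMulCommutative G) (S : Sylow 2 G) (E : Subgroup (S : Subgroup G)) (hidx : E.index = 2)
    (hE2 : ∀ a ∈ E, a * a = 1) (hinv : ∀ a : (S : Subgroup G), a * a = 1 → a ∈ E)
    (hexp : ∀ a : (S : Subgroup G), a ^ 4 = 1) : False := by
  classical
  haveI : Fact (Nat.Prime 2) := ⟨Nat.prime_two⟩
  haveI := Subgroup.normal_of_index_eq_two hidx
  have hcardQ : Nat.card ((S : Subgroup G) ⧸ E) = 2 := by rw [← Subgroup.index_eq_card, hidx]
  haveI : IsCyclic ((S : Subgroup G) ⧸ E) := isCyclic_of_prime_card hcardQ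
  letI : CommGroup ((S : Subgroup G) ⧸ E) := IsCyclic.commGroup
  obtain ⟨v, hv⟩ : ∃ v : (S : Subgroup G), v ∉ E := by
    by_contra h; push Not at h
    rw [show E = ⊤ from eq_top_iff.2 fun x _ => h x, Subgroup.index_top] at hidx
    omega
  set a : (S : Subgroup G) ⧸ E := (v : (S : Subgroup G) ⧸ E) with ha
  have ha1 : a ≠ 1 := fun h => hv ((QuotientGroup.eq_one_iff v).1 h)
  have ha2 : a ^ 2 = 1 := by
    have h := pow_card_eq_one' (x := a)
    rwa [hcardQ] at h
  have huniq : ∀ w : (S : Subgroup G), w ∉ E → (w : (S : Subgroup G) ⧸ E) = a := by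
    intro w hw
    rw [ha, QuotientGroup.eq]
    exact (Subgroup.mul_mem_iff_of_index_two hidx).2 (iff_of_false (fun h => hw (inv_mem_iff.1 h)) hv)
  set ϕ : (S : Subgroup G) →* (S : Subgroup G) ⧸ E := QuotientGroup.mk' E
  haveI : (S : Subgroup G).FiniteIndex := inferInstance
  haveI : Fintype (Quotient (MulAction.orbitRel (Subgroup.zpowers (v : G)) (G ⧸ (S : Subgroup G)))) :=
    Fintype.ofFinite _
  have hv4 : (v : G) ^ 4 = 1 := by rw [← Subgroup.coe_pow, hexp, Subgroup.coe_one]
  have hterm : ∀ q : Quotient (MulAction.orbitRel (Subgroup.zpowers (v : G)) (G ⧸ (S : Subgroup G))),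
      ϕ ⟨q.out.out⁻¹ * (v : G) ^ Function.minimalPeriod ((v : G) • ·) q.out * q.out.out,
        QuotientGroup.out_conj_pow_minimalPeriod_mem (S : Subgroup G) (v : G) q.out⟩ =
      a ^ Function.minimalPeriod ((v : G) • ·) q.out := by
    intro q
    set f := Function.minimalPeriod ((v : G) • ·) q.out
    set w : (S : Subgroup G) := ⟨q.out.out⁻¹ * (v : G) ^ f * q.out.out,
      QuotientGroup.out_conj_pow_minimalPeriod_mem (S : Subgroup G) (v : G) q.out⟩
    have hwsq : ((w * w : (S : Subgroup G)) : G) =
        q.out.out⁻¹ * (v : G) ^ (2 * f) * q.out.out := by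
      simp only [w, Subgroup.coe_mul, two_mul, pow_add]
      group
    show ϕ w = a ^ f
    rcases Nat.even_or_odd' f with ⟨j, hj | hj⟩
    · rw [hj, pow_mul a, ha2, one_pow]
      refine (QuotientGroup.eq_one_iff w).2 (hinv w (Subtype.ext ?_))
      rw [hwsq, hj, show 2 * (2 * j) = 4 * j by ring, pow_mul, hv4, one_pow]
      simp
    · rw [hj, pow_add, pow_mul a, ha2, one_pow, one_mul, pow_one]
      refine huniq w fun hwE => hv ?_
      have h1 : ((w * w : (S : Subgroup G)) : G) = 1 := by rw [hE2 w hwE]; rfl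
      rw [hwsq, hj, show 2 * (2 * j + 1) = 4 * j + 2 by ring, pow_add, pow_mul, hv4, one_pow,
        one_mul] at h1
      refine hinv v (Subtype.ext ?_)
      have h2 : (v : G) ^ 2 = 1 := by
        have := congrArg (fun x => q.out.out * x * q.out.out⁻¹) h1
        simpa [mul_assoc] using this
      rw [Subgroup.coe_mul, ← pow_two, h2]; rfl
  have htr : MonoidHom.transfer ϕ (v : G) = a := by
    rw [MonoidHom.transfer_eq_prod_quotient_orbitRel_zpowers_quot, Finset.prod_congr rfl fun q _ => hterm q,
      Finset.prod_pow_eq_pow_sum]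
    have hsum : ∑ q : Quotient (MulAction.orbitRel (Subgroup.zpowers (v : G)) (G ⧸ (S : Subgroup G))),
        Function.minimalPeriod ((v : G) • ·) q.out = (S : Subgroup G).index := by
      haveI : ∀ q : Quotient (MulAction.orbitRel (Subgroup.zpowers (v : G)) (G ⧸ (S : Subgroup G))),
          Finite (ZMod (Function.minimalPeriod ((v : G) • ·) q.out)) := fun q =>
        Finite.of_injective (fun k => (Subgroup.quotientEquivSigmaZMod (S : Subgroup G) (v : G)).symm ⟨q, k⟩)
          (fun k k' h => eq_of_heq (Sigma.mk.inj_iff.1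
            ((Subgroup.quotientEquivSigmaZMod (S : Subgroup G) (v : G)).symm.injective h)).2)
      rw [Subgroup.index_eq_card, Nat.card_congr (Subgroup.quotientEquivSigmaZMod (S : Subgroup G) (v : G)),
        Nat.card_sigma]
      exact Finset.sum_congr rfl fun q _ => (Nat.card_zmod _).symm
    rw [hsum]
    obtain ⟨j, hj⟩ := Nat.odd_iff.2 (Nat.two_dvd_ne_zero.1 S.not_dvd_index)
    rw [hj, pow_add, pow_mul, ha2, one_pow, one_mul, pow_one]
  rcases (MonoidHom.transfer ϕ).normal_ker.eq_bot_or_eq_top with h | h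
  · refine hG ⟨⟨fun x y => (MonoidHom.ker_eq_bot_iff _).1 h ?_⟩⟩
    rw [map_mul, map_mul, mul_comm]
  · exact ha1 (htr ▸ MonoidHom.mem_ker.1 (h ▸ Subgroup.mem_top (v : G)))

/-- No nonabelian Sylow two-subgroup of order `16` without elements of order `8`. -/
theorem false_of_sixteen {G : Type u} [Group G] [Finite G] [IsSimpleGroup G]
    (hG : ¬ IsMulCommutative G) (S : Sylow 2 G) (h16 : Nat.card (S : Subgroup G) = 16)
    (hS : ¬ IsMulCommutative (S : Subgroup G))
    (h8 : ∀ x : (S : Subgroup G), orderOf x ≠ 8) : False := by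
  classical
  haveI : Fact (Nat.Prime 2) := ⟨Nat.prime_two⟩
  have hexp : ∀ x : (S : Subgroup G), x ^ 4 = 1 := by
    intro x
    obtain ⟨j, hj, hx⟩ := (Nat.dvd_prime_pow Nat.prime_two).1
      (show orderOf x ∣ 2 ^ 4 by rw [show (2 : ℕ) ^ 4 = Nat.card (S : Subgroup G) by rw [h16]; norm_num];
                                 exact orderOf_dvd_natCard x)
    refine orderOf_dvd_iff_pow_eq_one.1 (hx ▸ ?_)
    interval_cases j <;> norm_num
    · exact h8 x hx
    · refine hS ?_
      haveI : IsCyclic (S : Subgroup G) := isCyclic_of_orderOf_eq_card x (by rw [hx, h16]; norm_num)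
      infer_instance
  by_cases hr : Cfsg.PRankLE 2 2 G
  · haveI : Fintype (GaloisField 2 4) := Fintype.ofFinite _
    have hF : Fintype.card (GaloisField 2 4) = 16 := by
      rw [← Nat.card_eq_fintype_card, GaloisField.card 2 4 (by norm_num)]; norm_num
    obtain ⟨Q⟩ := (inferInstance : Nonempty (Sylow 2 (Cfsg.PSU 3 (GaloisField 2 4) 4)))
    rcases Cfsg.Agent.S0516.result hG hr S hF Q with ⟨n, hn, ⟨e⟩⟩ | ⟨n, hn, hc, x, y, hx, -, -⟩ |
      ⟨n, hn, hc, -⟩ | he
    · have hc := Nat.card_congr e.toEquiv
      rw [h16, DihedralGroup.nat_card] at hc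
      obtain rfl : n = 8 := by omega
      exact h8 (e.symm (DihedralGroup.r 1)) (by rw [MulEquiv.orderOf_eq, DihedralGroup.orderOf_r_one])
    · rw [h16, show (16 : ℕ) = 2 ^ 4 by norm_num] at hc
      have := Nat.pow_right_injective le_rfl hc
      exact h8 x (by rw [hx, show n = 3 by omega]; norm_num)
    · rw [h16, show (16 : ℕ) = 2 ^ 4 by norm_num] at hc
      have := Nat.pow_right_injective le_rfl hc
      omega
    · have hc := Nat.card_congr he.some.toEquiv
      rw [h16] at hc
      have h64 := (Cfsg.Agent.S1248.result hF Q).1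
      omega
  simp only [Cfsg.PRankLE, not_forall, not_le] at hr
  obtain ⟨A, hAc, hA2, hA4⟩ := hr
  have hAp : IsPGroup 2 A := fun a => ⟨1, Subtype.ext (by simpa using hA2 a a.2)⟩
  obtain ⟨U, hU⟩ := hAp.exists_le_sylow
  let f : A →* (S : Subgroup G) := (U.equiv S).toMonoidHom.comp (Subgroup.inclusion hU)
  have hf : Function.Injective f := fun a b h =>
    Subgroup.inclusion_injective hU ((U.equiv S).injective h)
  set E := f.range with hE
  have hEcard : Nat.card E = Nat.card A := (Nat.card_congr (MonoidHom.ofInjective hf).toEquiv).symm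
  have hEc : IsMulCommutative E := ⟨⟨by
    rintro ⟨_, a, rfl⟩ ⟨_, b, rfl⟩
    refine Subtype.ext ?_
    show f a * f b = f b * f a
    rw [← map_mul, ← map_mul, hAc.is_comm.comm]⟩⟩
  have hE2 : ∀ a ∈ E, a * a = 1 := by
    rintro _ ⟨a, rfl⟩
    rw [← map_mul, show a * a = 1 from Subtype.ext (by
      have := hA2 a a.2
      rw [pow_two] at this; exact this), map_one]
  have hE8 : Nat.card E = 8 := by
    have hd : Nat.card E ∣ 2 ^ 4 := by
      rw [show (2 : ℕ) ^ 4 = Nat.card (S : Subgroup G) by rw [h16]; norm_num]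
      exact E.card_subgroup_dvd_card
    obtain ⟨j, hj, hjc⟩ := (Nat.dvd_prime_pow Nat.prime_two).1 hd
    rw [← hEcard, hjc] at hA4
    have hj3 : 3 ≤ j := (Nat.pow_lt_pow_iff_right one_lt_two).1 hA4
    rcases Nat.lt_or_ge j 4 with h | h
    · rw [hjc, show j = 3 by omega]; norm_num
    · refine absurd ?_ hS
      have htop : E = ⊤ := Subgroup.eq_top_of_card_eq E (by
        rw [hjc, h16, show j = 4 by omega]; norm_num)
      exact ⟨⟨fun a b => congrArg Subtype.val (hEc.is_comm.comm
        (⟨a, htop.ge (Subgroup.mem_top a)⟩ : E) ⟨b, htop.ge (Subgroup.mem_top b)⟩)⟩⟩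
  have hidx : E.index = 2 := by
    have h := E.card_mul_index
    rw [hE8, h16] at h
    omega
  by_cases hw : ∃ w, w ∉ E ∧ w * w = 1
  · obtain ⟨w, hwE, hw⟩ := hw
    obtain ⟨e⟩ := two_times_dihedral h16 hS E hE8 hE2 hEc hexp hwE hw
    exact Cfsg.Agent.S3309.result S ⟨e⟩ hG
  · push Not at hw
    exact false_of_omega hG S E hidx hE2 (fun a ha => by_contra fun h => hw a h ha) hexp

end Cfsg.Lib.Char.RamifiedSolvable
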