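import Cfsg.Agent.Lib.Char.RamifiedSolvable.Key
import Cfsg.Agent.Lib.Char.RamifiedSolvable.Reduce
import Cfsg.Agent.Lib.Char.RamifiedSolvable.Cyclic
import Cfsg.Agent.Lib.Char.RamifiedSolvable.Sixteen
import Cfsg.Agent.Lib.Group.MinimalNormalFactor

/-!
# Fully ramified quotients with small nonabelian Sylow subgroups are solvable
-/

set_option autoImplicit false
set_option linter.unusedSectionVars false
set_option linter.style.haveILetI false

namespace Cfsg.Lib.Char.RamifiedSolvable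

open Cfsg Cfsg.Lib Cfsg.Lib.Char

universe u

variable {H : Type u} [Group H] [Fintype H] {Z : Subgroup H} [hZ : Z.Normal] [Fintype Z]
  {χ : H → ℂ} (hχ : IsIrrCharacter H χ) {θ : Z → ℂ} (hθ : IsIrrCharacter Z θ) {e : ℕ}
  (he : e ^ 2 = Z.index) (hres : ∀ z : Z, χ z = (e : ℂ) * θ z)

include hχ hθ he hres in
/-- No element is, up to the prime-to-`s` part, its own centralizer. -/
theorem false_of_prime_part {s k : ℕ} [Fact s.Prime] {x : H ⧸ Z} (hk : orderOf x = s ^ k)
    (hx1 : x ≠ 1)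
    (hcent : ∀ c, Commute c x → (∃ m, orderOf c = s ^ m) → c ∈ Subgroup.zpowers x) : False := by
  obtain ⟨x, rfl⟩ := QuotientGroup.mk_surjective x
  haveI : Fintype (cyc Z x) := Fintype.ofFinite _
  have hxZ : x ∉ Z := fun h => hx1 ((QuotientGroup.eq_one_iff x).2 h)
  obtain ⟨φ, hφ, hφres⟩ := exists_extension hχ hθ he hres x
  obtain ⟨g, hg, hgfix⟩ := exists_moved hχ hθ he hres hxZ hφ hφres
  refine hgfix ?_
  obtain ⟨m, r, -, hmr, hsr, hom, hor⟩ := exists_split s (g : H ⧸ Z)
  refine mem_of_parts hmr ?_ ?_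
  · refine mem_fixSub_of_coprime hχ hθ he hres ?_ r ?_ (hk ▸ hsr.pow_left k) hφ hφres
    · rw [QuotientGroup.mk_pow]; exact hg.pow_left _
    · rw [← QuotientGroup.eq_one_iff, QuotientGroup.mk_pow, QuotientGroup.mk_pow]
      exact orderOf_dvd_iff_pow_eq_one.1 hor.dvd
  · refine le_fixSub hφ ?_
    show ((g ^ r : H) : H ⧸ Z) ∈ Subgroup.zpowers (x : H ⧸ Z)
    rw [QuotientGroup.mk_pow]
    exact hcent _ (hg.pow_left r) ⟨m, hom⟩

include hχ hθ he hres in
/-- A nonabelian Sylow two-subgroup of order `16` has no element of order `8`. -/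
theorem orderOf_ne_eight (P : Sylow 2 (H ⧸ Z)) (h16 : Nat.card (P : Subgroup (H ⧸ Z)) = 16)
    (hP : ¬ IsMulCommutative (P : Subgroup (H ⧸ Z))) (x : H ⧸ Z) : orderOf x ≠ 8 := by
  intro hx
  haveI : Fact (Nat.Prime 2) := ⟨Nat.prime_two⟩
  have hxk : orderOf x = 2 ^ 3 := by rw [hx]; norm_num
  refine false_of_prime_part hχ hθ he hres hxk (fun h => by rw [h, orderOf_one] at hx; omega)
    fun c hc ⟨m, hm⟩ => ?_
  by_contra hcx
  set K := Subgroup.closure ({x, c} : Set (H ⧸ Z)) with hK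
  haveI hKc : IsMulCommutative K := Subgroup.isMulCommutative_closure (by
    rintro a (rfl | rfl) b (rfl | rfl)
    · rfl
    · exact hc.eq.symm
    · exact hc.eq
    · rfl)
  have hKp : IsPGroup 2 K := by
    rintro ⟨a, ha⟩
    refine ⟨3 + m, Subtype.ext ?_⟩
    show a ^ 2 ^ (3 + m) = 1
    induction ha using Subgroup.closure_induction with
    | mem a ha =>
      rcases ha with rfl | rfl
      · rw [pow_add, pow_mul, ← hxk, pow_orderOf_eq_one, one_pow]
      · rw [pow_add, mul_comm, pow_mul, ← hm, pow_orderOf_eq_one, one_pow]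
    | one => exact one_pow _
    | mul a b ha hb iha ihb =>
      have hab : Commute a b :=
        congrArg Subtype.val (hKc.is_comm.comm (⟨a, ha⟩ : K) ⟨b, hb⟩)
      rw [hab.mul_pow, iha, ihb, one_mul]
    | inv a ha iha => rw [inv_pow, iha, inv_one]
  obtain ⟨U, hU⟩ := hKp.exists_le_sylow
  have hxK : Subgroup.zpowers x < K := lt_of_le_of_ne
    (Subgroup.zpowers_le.2 (Subgroup.subset_closure (Set.mem_insert _ _)))
    (fun h => hcx (h ▸ Subgroup.subset_closure (Set.mem_insert_of_mem _ rfl)))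
  have h1 : 8 < Nat.card K := by
    have := Set.ncard_lt_ncard (SetLike.coe_ssubset_coe.2 hxK) (Set.toFinite _)
    rw [← Nat.card_coe_set_eq, ← Nat.card_coe_set_eq] at this
    calc 8 = Nat.card (Subgroup.zpowers x) := by rw [Nat.card_zpowers, hx]
      _ < Nat.card K := this
  have hUc : Nat.card (U : Subgroup (H ⧸ Z)) = 16 :=
    (Nat.card_congr (U.equiv P).toEquiv).trans h16
  have h2 : Nat.card K ∣ 2 ^ 4 := by
    rw [show (2 : ℕ) ^ 4 = Nat.card (U : Subgroup (H ⧸ Z)) by rw [hUc]; norm_num]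
    exact Subgroup.card_dvd_of_le hU
  obtain ⟨j, hj, hjc⟩ := (Nat.dvd_prime_pow Nat.prime_two).1 h2
  have hj4 : j = 4 := by
    rw [hjc, show (8 : ℕ) = 2 ^ 3 by norm_num] at h1
    have := (Nat.pow_lt_pow_iff_right one_lt_two).1 h1
    omega
  have hKU : K = (U : Subgroup (H ⧸ Z)) :=
    Subgroup.eq_of_le_of_card_ge hU (by rw [hUc, hjc, hj4]; norm_num)
  refine hP ⟨⟨fun a b => (P.equiv U).injective ?_⟩⟩
  rw [map_mul, map_mul]
  have hcomm := congrArg Subtype.val (hKc.is_comm.comm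
    (⟨_, hKU.ge ((P.equiv U) a).2⟩ : K) ⟨_, hKU.ge ((P.equiv U) b).2⟩)
  exact Subtype.ext hcomm

include hχ hθ he hres in
/-- A simple subgroup whose members determine it has no nontrivial cyclic Sylow subgroup. -/
theorem false_of_cyclic_sylow (T : Subgroup (H ⧸ Z)) [IsSimpleGroup T] (hT : ¬ IsMulCommutative T)
    {s : ℕ} [Fact s.Prime] (S : Sylow s T) [hcyc : IsCyclic (S : Subgroup T)]
    (hS : (S : Subgroup T) ≠ ⊥)
    (hnorm : ∀ g : H ⧸ Z, ∀ x ∈ T, x ≠ 1 → g * x * g⁻¹ ∈ T → ∀ t ∈ T, g * t * g⁻¹ ∈ T) : False := by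
  classical
  obtain ⟨x, hx⟩ := (Subgroup.isCyclic_iff_exists_zpowers_eq_top (S : Subgroup T)).1 hcyc
  have hxS : x ∈ (S : Subgroup T) := hx ▸ Subgroup.mem_zpowers x
  obtain ⟨k, hk⟩ : ∃ k, orderOf x = s ^ k := by
    obtain ⟨k, hk⟩ := IsPGroup.iff_card.1 S.isPGroup'
    exact ⟨k, by rw [← Nat.card_zpowers, hx, hk]⟩
  have hx1 : x ≠ 1 := fun h => hS (by rw [← hx, h, Subgroup.zpowers_one_eq_bot])
  have hcentT : ∀ c : T, Commute c x → (∃ m, orderOf c = s ^ m) → c ∈ Subgroup.zpowers x := by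
    intro c hc ⟨m, hm⟩
    set K := Subgroup.closure ({x, c} : Set T)
    haveI hKc : IsMulCommutative K := Subgroup.isMulCommutative_closure (by
      rintro a (rfl | rfl) b (rfl | rfl)
      · rfl
      · exact hc.eq.symm
      · exact hc.eq
      · rfl)
    have hKp : IsPGroup s K := by
      rintro ⟨a, ha⟩
      refine ⟨k + m, Subtype.ext ?_⟩
      show a ^ s ^ (k + m) = 1
      induction ha using Subgroup.closure_induction with
      | mem a ha =>
        rcases ha with rfl | rfl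
        · rw [pow_add, pow_mul, ← hk, pow_orderOf_eq_one, one_pow]
        · rw [pow_add, mul_comm, pow_mul, ← hm, pow_orderOf_eq_one, one_pow]
      | one => exact one_pow _
      | mul a b ha hb iha ihb =>
        have hab : Commute a b :=
          congrArg Subtype.val (hKc.is_comm.comm (⟨a, ha⟩ : K) ⟨b, hb⟩)
        rw [hab.mul_pow, iha, ihb, one_mul]
      | inv a ha iha => rw [inv_pow, iha, inv_one]
    have hSK : (S : Subgroup T) ≤ K :=
      hx ▸ Subgroup.zpowers_le.2 (Subgroup.subset_closure (Set.mem_insert _ _))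
    rw [hx, ← S.is_maximal' hKp hSK]
    exact Subgroup.subset_closure (Set.mem_insert_of_mem _ rfl)
  -- Burnside: some element acts nontrivially on `⟨x⟩`
  obtain ⟨n, hn, hnx⟩ : ∃ n : T, n ∈ Subgroup.normalizer ((S : Subgroup T) : Set T) ∧
      ¬ Commute n x := by
    by_contra hall
    push Not at hall
    have hle : Subgroup.normalizer ((S : Subgroup T) : Set T) ≤
        Subgroup.centralizer ((S : Subgroup T) : Set T) := fun n hn =>
      Subgroup.mem_centralizer_iff.2 fun y hy => by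
        rw [SetLike.mem_coe, ← hx] at hy
        obtain ⟨i, rfl⟩ := hy
        exact ((hall n hn).zpow_right i).eq.symm
    have hc := MonoidHom.ker_transferSylow_isComplement' S hle
    rcases (MonoidHom.transferSylow S hle).normal_ker.eq_bot_or_eq_top with h | h
    · rw [h, Subgroup.isComplement'_bot_left] at hc
      refine hT ⟨⟨fun a b => ?_⟩⟩
      obtain ⟨i, rfl⟩ := (show a ∈ Subgroup.zpowers x from hx ▸ hc ▸ Subgroup.mem_top a)
      obtain ⟨j, rfl⟩ := (show b ∈ Subgroup.zpowers x from hx ▸ hc ▸ Subgroup.mem_top b)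
      exact (Commute.refl x).zpow_zpow i j
    · rw [h, Subgroup.isComplement'_top_left] at hc
      exact hS hc
  obtain ⟨m, r, -, hmr, hsr, hom, hor⟩ := exists_split s n
  set n' := n ^ s ^ m with hn'
  have hn'N : n' ∈ Subgroup.normalizer ((S : Subgroup T) : Set T) := pow_mem hn _
  have hnr : Commute (n ^ r) x := by
    have hmem : n ^ r ∈ (S : Subgroup T) := by
      have hle : (S : Subgroup T) ⊔ Subgroup.zpowers (n ^ r) = (S : Subgroup T) := by
        refine S.is_maximal' ?_ le_sup_left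
        exact S.isPGroup'.to_sup_of_normal_left'
          (IsPGroup.of_card (by rw [Nat.card_zpowers, hom]))
          (Subgroup.zpowers_le.2 (pow_mem hn r))
      exact hle.le (Subgroup.mem_sup_right (Subgroup.mem_zpowers _))
    rw [← hx] at hmem
    obtain ⟨i, hi⟩ := hmem
    rw [← hi]
    exact (Commute.refl x).zpow_left i
  have hn'x : ¬ Commute n' x := fun hc => hnx (by
    have := mem_of_parts (K := Subgroup.centralizer ({x} : Set T)) hmr
      (Subgroup.mem_centralizer_singleton_iff.2 hc.eq) (Subgroup.mem_centralizer_singleton_iff.2 hnr.eq)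
    exact Subgroup.mem_centralizer_singleton_iff.1 this)
  obtain ⟨a, ha⟩ : ∃ a : ℕ, n' * x * n'⁻¹ = x ^ a := by
    have hmem : n' * x * n'⁻¹ ∈ (S : Subgroup T) :=
      (Subgroup.mem_normalizer_iff.1 hn'N x).1 hxS
    rw [← hx] at hmem
    obtain ⟨a, ha⟩ := mem_powers_iff_mem_zpowers.2 hmem
    exact ⟨a, ha.symm⟩
  have hiter : ∀ j : ℕ, n' ^ j * x * (n' ^ j)⁻¹ = x ^ a ^ j := by
    intro j
    induction j with
    | zero => simp
    | succ j ih =>
      calc n' ^ (j + 1) * x * (n' ^ (j + 1))⁻¹ = n' * (n' ^ j * x * (n' ^ j)⁻¹) * n'⁻¹ := by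
            rw [pow_succ']; group
        _ = (n' * x * n'⁻¹) ^ a ^ j := by rw [ih, conj_pow]
        _ = x ^ a ^ (j + 1) := by rw [ha, ← pow_mul, pow_succ']
  have ha1 : ¬ (s : ℤ) ∣ (a : ℤ) - 1 := by
    intro hd
    have h1 : ((s : ℤ) ^ (k + 1)) ∣ (a : ℤ) ^ s ^ k - 1 ^ s ^ k :=
      dvd_sub_pow_of_dvd_sub hd k
    rw [one_pow] at h1
    have h2 : n' ^ s ^ k ∈ Subgroup.centralizer ({x} : Set T) := by
      rw [Subgroup.mem_centralizer_singleton_iff, ← mul_inv_eq_iff_eq_mul, hiter]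
      have h3 : ((a ^ s ^ k : ℕ) : ℤ) ≡ ((1 : ℕ) : ℤ) [ZMOD (orderOf x : ℤ)] := by
        refine (Int.modEq_iff_dvd.2 ?_).symm
        rw [hk]
        push_cast
        exact (pow_dvd_pow (s : ℤ) (Nat.le_succ k)).trans h1
      rw [pow_eq_pow_iff_modEq.2 (Int.natCast_modEq_iff.1 h3), pow_one]
    have h4 : n' ^ r ∈ Subgroup.centralizer ({x} : Set T) := by
      rw [show n' ^ r = 1 from orderOf_dvd_iff_pow_eq_one.1 hor.dvd]
      exact one_mem _
    have hcop : Nat.Coprime (s ^ k) r := hsr.pow_left k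
    exact hn'x (Subgroup.mem_centralizer_singleton_iff.1 (mem_of_parts hcop h2 h4))
  refine false_of_normalized hχ hθ he hres (T := T) (k := k) (x := (x : H ⧸ Z))
    (by rw [Subgroup.orderOf_coe, hk]) x.2 (fun h => hx1 (Subtype.ext h)) ?_ (n := (n' : H ⧸ Z)) n'.2
    (a := a) ?_ ha1 ?_
  · intro c hcT hcx ⟨m, hm⟩
    obtain ⟨i, hi⟩ := hcentT ⟨c, hcT⟩ (Subtype.ext hcx.eq) ⟨m, by rw [Subgroup.orderOf_mk, hm]⟩
    exact ⟨i, congrArg Subtype.val hi⟩
  · exact congrArg Subtype.val ha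
  · intro y hy _
    refine hnorm y x x.2 (fun h => hx1 (Subtype.ext h)) ?_
    rw [hy.eq, mul_inv_cancel_right]
    exact x.2

include hχ hθ he hres in
theorem solvable_of_indHyp (hab : AbSylows Z) (IH : IndHyp.{u} Z.index) :
    Group.IsSolvable (H ⧸ Z) := by
  classical
  by_cases htriv : (⊤ : Subgroup (H ⧸ Z)) = ⊥
  · exact Group.isSolvable_of_top_eq_bot _ htriv
  obtain ⟨N, hN, -, hNne, hmin⟩ := Group.MinFactor.exists_minimal_normal
    (inferInstance : (⊤ : Subgroup (H ⧸ Z)).Normal) htriv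
  haveI := hN
  by_cases hNc : IsMulCommutative N
  · exact solvable_of_abelian_normal hχ hθ he hres hab IH N hNne hmin
  exfalso
  obtain ⟨T, hT⟩ := Group.MinFactor.exists_factor hNne
  have hTc := hT.inf_centralizer hmin hNc
  have hTna : ¬ IsMulCommutative T := fun h => hT.ne (eq_bot_iff.2 (hTc ▸ le_inf le_rfl
    fun x hx => Subgroup.mem_centralizer_iff.2 fun y hy =>
      congrArg Subtype.val (h.is_comm.comm (⟨y, hy⟩ : T) ⟨x, hx⟩)))
  haveI : Nontrivial T := (Subgroup.nontrivial_iff_ne_bot T).2 hT.ne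
  haveI : IsSimpleGroup T := ⟨fun R hR => by
    by_cases hRb : R.map T.subtype = ⊥
    · exact Or.inl ((Subgroup.map_eq_bot_iff_of_injective _ T.subtype_injective).1 hRb)
    refine Or.inr ?_
    have h := hT.min (R.map T.subtype) (Subgroup.map_subtype_le R) ?_ hRb
    · rw [eq_top_iff]
      intro x _
      obtain ⟨y, hy, hyx⟩ := (h.ge x.2 : (x : H ⧸ Z) ∈ R.map T.subtype)
      rwa [← Subtype.ext hyx]
    have hle : T ⊔ (N ⊓ Subgroup.centralizer (T : Set (H ⧸ Z))) ≤
        Subgroup.normalizer ((R.map T.subtype : Subgroup (H ⧸ Z)) : Set (H ⧸ Z)) := by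
      refine sup_le ?_ fun c hc => Subgroup.mem_normalizer_iff.2 fun r => ?_
      · have hRT := Subgroup.le_normalizer_map (H := R) T.subtype
        rw [Subgroup.normalizer_eq_top_iff.2 hR, ← MonoidHom.range_eq_map,
          Subgroup.range_subtype] at hRT
        exact hRT
      · have hfix : ∀ q ∈ R.map T.subtype, c * q * c⁻¹ = q := fun q hq => by
          rw [← Subgroup.mem_centralizer_iff.1 hc.2 q (Subgroup.map_subtype_le R hq),
            mul_inv_cancel_right]
        refine ⟨fun hr => by rw [hfix r hr]; exact hr, fun hr => ?_⟩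
        have h2 := hfix _ hr
        have h3 : r = c * r * c⁻¹ := by
          have := congrArg (fun q => c⁻¹ * q * c) h2
          simpa [mul_assoc] using this.symm
        rw [h3]; exact hr
    rintro n hn r hr
    rw [← hT.sup_centralizer hmin] at hn
    exact (Subgroup.mem_normalizer_iff.1 (hle hn) r).1 hr⟩
  have hnorm : ∀ g : H ⧸ Z, ∀ x ∈ T, x ≠ 1 → g * x * g⁻¹ ∈ T → ∀ t ∈ T, g * t * g⁻¹ ∈ T := by
    intro g x hx hx1 hgx t ht
    by_cases heq : T.map (MulAut.conj g).toMonoidHom = T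
    · exact heq.le ⟨t, ht, rfl⟩
    exfalso
    have hmem : g * x * g⁻¹ ∈ T ⊓ Subgroup.centralizer (T : Set (H ⧸ Z)) :=
      ⟨hgx, Subgroup.mem_centralizer_iff.2 fun u hu =>
        ((hT.conj g).commute hT heq ⟨x, hx, rfl⟩ hu).eq.symm⟩
    rw [hTc, Subgroup.mem_bot, conj_eq_one_iff] at hmem
    exact hx1 hmem
  haveI : Fact (Nat.Prime 2) := ⟨Nat.prime_two⟩
  have hfin : HasCyclicSylow T → False := fun h => by
    obtain ⟨s, S, hs, hc, hne⟩ := h.sylow
    haveI := Fact.mk hs
    haveI := hc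
    exact false_of_cyclic_sylow hχ hθ he hres T hTna S hne hnorm
  obtain ⟨S⟩ := (inferInstance : Nonempty (Sylow 2 T))
  by_cases hSc : IsMulCommutative (S : Subgroup T)
  · exact hfin (hasCyclicSylow_of_abelian hTna S hSc)
  obtain ⟨U, hU⟩ := (S.2.map T.subtype).exists_le_sylow
  let f : (S : Subgroup T) →* (U : Subgroup (H ⧸ Z)) :=
    (T.subtype.comp (S : Subgroup T).subtype).codRestrict (U : Subgroup (H ⧸ Z))
      fun a => hU ⟨a, a.2, rfl⟩
  have hf : Function.Injective f := fun a b h => by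
    have h' := congrArg Subtype.val h
    exact Subtype.ext (Subtype.ext h')
  have hUc : ¬ IsMulCommutative (U : Subgroup (H ⧸ Z)) := fun h =>
    hSc ⟨⟨fun a b => hf (by rw [map_mul, map_mul]; exact h.is_comm.comm _ _)⟩⟩
  have h64 : ¬ 2 ^ 6 ∣ Z.index := fun h => hUc (hab 2 Nat.prime_two h U)
  have hsmall : ∀ V : Subgroup (H ⧸ Z), ∀ j, Nat.card V = 2 ^ j → j ≤ 4 := by
    intro V j hj
    by_contra hj5
    have he0 : e ≠ 0 := fun h => Subgroup.index_ne_zero_of_finite (H := Z) (by rw [← he, h]; norm_num)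
    obtain ⟨m, r, hr, her⟩ := Nat.exists_eq_pow_mul_and_not_dvd he0 2 (by norm_num)
    have h1 : 2 ^ 5 ∣ (2 ^ m) ^ 2 * r ^ 2 := by
      rw [← mul_pow, ← her, he, Subgroup.index_eq_card]
      exact ((pow_dvd_pow 2 (by omega : 5 ≤ j)).trans (hj ▸ V.card_subgroup_dvd_card))
    have h2 := (((Nat.Prime.coprime_iff_not_dvd Nat.prime_two).2 hr).pow 5 2).dvd_of_dvd_mul_right h1
    rw [← pow_mul] at h2
    have hm := (Nat.pow_dvd_pow_iff_le_right one_lt_two).1 h2
    refine h64 ?_
    rw [← he, her, mul_pow, ← pow_mul]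
    exact dvd_mul_of_dvd_left (pow_dvd_pow 2 (by omega)) _
  obtain ⟨j, hj⟩ := IsPGroup.iff_card.1 S.isPGroup'
  obtain ⟨i, hi⟩ := IsPGroup.iff_card.1 U.isPGroup'
  have hi4 : i ≤ 4 := hsmall _ i hi
  have hji : j ≤ i := by
    have := Nat.card_le_card_of_injective f hf
    rw [hj, hi] at this
    exact (Nat.pow_le_pow_iff_right one_lt_two).1 this
  have hj3 : 3 ≤ j := by
    by_contra hlt
    refine hSc ?_
    interval_cases j
    · haveI : Subsingleton (S : Subgroup T) := (Nat.card_eq_one_iff_unique.1 hj).1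
      exact ⟨⟨fun a b => Subsingleton.elim _ _⟩⟩
    · haveI : IsCyclic (S : Subgroup T) := isCyclic_of_prime_card (p := 2) (by simpa using hj)
      infer_instance
    · exact IsPGroup.isMulCommutative_of_card_eq_prime_sq (p := 2) hj
  rcases Nat.lt_or_ge j 4 with hlt | hge
  · exact hfin (hasCyclicSylow_of_eight hTna S (by rw [hj, show j = 3 by omega]; norm_num) hSc)
  refine false_of_sixteen hTna S (by rw [hj, show j = 4 by omega]; norm_num) hSc fun a ha => ?_
  refine orderOf_ne_eight hχ hθ he hres U (by rw [hi, show i = 4 by omega]; norm_num) hUc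
    (((a : (S : Subgroup T)) : T) : H ⧸ Z) ?_
  rw [Subgroup.orderOf_coe, Subgroup.orderOf_coe, ha]

theorem solvable_of_fullyRamified : ∀ n : ℕ, IndHyp.{u} n := by
  intro n
  induction n with
  | zero => intro H _ _ Z _ _ χ θ e _ _ _ _ _ h; omega
  | succ n ih =>
    intro H _ _ Z _ _ χ θ e hχ hθ he hres hab hlt
    refine solvable_of_indHyp hχ hθ he hres hab ?_
    intro H' _ _ Z' _ _ χ' θ' e' hχ' hθ' he' hres' hab' hlt'
    exact ih H' Z' χ' θ' e' hχ' hθ' he' hres' hab' (by omega)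

end Cfsg.Lib.Char.RamifiedSolvable
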