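import Cfsg.Agent.Lib.Char.RamifiedSolvable.Inertia
import Cfsg.Agent.Lib.Char.RamifiedSolvable.Dual

/-!
# Twisting by the characters of an abelian normal section
-/

set_option autoImplicit false
set_option linter.unusedSectionVars false
set_option linter.style.haveILetI false

namespace Cfsg.Lib.Char.RamifiedSolvable

open Cfsg Cfsg.Lib.Char
open scoped ComplexConjugate

universe u

variable {H : Type u} [Group H] {Z : Subgroup H} [hZ : Z.Normal] (L : Subgroup (H ⧸ Z))

/-- The preimage of `L`. -/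
abbrev pre : Subgroup H := L.comap (QuotientGroup.mk' Z)

theorem le_pre : Z ≤ pre L := fun z hz => by
  show (z : H ⧸ Z) ∈ L
  rw [(QuotientGroup.eq_one_iff z).2 hz]; exact one_mem _

/-- The projection of the preimage onto `L`. -/
def proj : pre L →* L :=
  { toFun := fun b => ⟨((b : H) : H ⧸ Z), b.2⟩
    map_one' := rfl
    map_mul' := fun _ _ => rfl }

theorem proj_surjective : Function.Surjective (proj L) := by
  rintro ⟨q, hq⟩
  obtain ⟨h, rfl⟩ := QuotientGroup.mk_surjective q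
  exact ⟨⟨h, hq⟩, rfl⟩

theorem proj_eq_one {b : pre L} : proj L b = 1 ↔ (b : H) ∈ Z := by
  rw [← QuotientGroup.eq_one_iff (N := Z)]
  exact ⟨fun h => congrArg Subtype.val h, fun h => Subtype.ext h⟩

variable {L}

/-- The product of a function with a linear character of `L`. -/
def tw (ψ : pre L → ℂ) (l : L →* ℂˣ) : pre L → ℂ := fun b => ψ b * (l (proj L b) : ℂ)

theorem tw_one (ψ : pre L → ℂ) : tw ψ 1 = ψ := funext fun b => by simp [tw]

theorem tw_tw (ψ : pre L → ℂ) (l l' : L →* ℂˣ) : tw (tw ψ l) l' = tw ψ (l * l') :=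
  funext fun b => by simp [tw, mul_assoc]

/-- The characters fixing `ψ` under twisting. -/
def twistStab (ψ : pre L → ℂ) : Subgroup (L →* ℂˣ) where
  carrier := {l | tw ψ l = ψ}
  one_mem' := tw_one ψ
  mul_mem' := fun {a b} ha hb => by
    show tw ψ (a * b) = ψ
    rw [← tw_tw, show tw ψ a = ψ from ha]; exact hb
  inv_mem' := fun {a} ha => by
    show tw ψ a⁻¹ = ψ
    conv_lhs => rw [← show tw ψ a = ψ from ha]
    rw [tw_tw, show a * a⁻¹ = 1 from mul_inv_cancel a, tw_one]

theorem tw_injective {ψ : pre L → ℂ} (h : twistStab ψ = ⊥) : Function.Injective (tw ψ) := by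
  intro a b he
  have : a * b⁻¹ ∈ twistStab ψ := by
    show tw ψ (a * b⁻¹) = ψ
    rw [← tw_tw, he, tw_tw, show b * b⁻¹ = 1 from mul_inv_cancel b, tw_one]
  rw [h, Subgroup.mem_bot] at this
  exact mul_inv_eq_one.1 this

variable [Fintype H] [Fintype Z] [Fintype (pre L)]
  {χ : H → ℂ} (hχ : IsIrrCharacter H χ) {θ : Z → ℂ} (hθ : IsIrrCharacter Z θ) {e : ℕ}
  (he : e ^ 2 = Z.index) (hres : ∀ z : Z, χ z = (e : ℂ) * θ z)

theorem isIrrCharacter_tw {ψ : pre L → ℂ} (hψ : IsIrrCharacter (pre L) ψ) (l : L →* ℂˣ) :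
    IsIrrCharacter (pre L) (tw ψ l) :=
  isIrrCharacter_mul_linear hψ (l.comp (proj L))

theorem tw_over {ψ : pre L → ℂ} (l : L →* ℂˣ) :
    (fun z : Z => tw ψ l ⟨z, le_pre L z.2⟩) = fun z : Z => ψ ⟨z, le_pre L z.2⟩ := by
  funext z
  simp only [tw, (proj_eq_one L (b := ⟨z, le_pre L z.2⟩)).2 z.2, map_one, Units.val_one, mul_one]

include hχ hθ he hres in
/-- A character over `θ` restricts to a multiple of it. -/
theorem res_eq {ψ : pre L → ℂ} (hψ : IsIrrCharacter (pre L) ψ)
    (hψθ : classInner (fun z : Z => ψ ⟨z, le_pre L z.2⟩) θ ≠ 0) :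
    ∀ z : Z, ψ ⟨z, le_pre L z.2⟩ =
      classInner (fun z : Z => ψ ⟨z, le_pre L z.2⟩) θ * θ z := by
  classical
  have hinv := fullyRamified_invariant hχ he hres
  haveI : (Z.subgroupOf (pre L)).Normal := Subgroup.Normal.subgroupOf inferInstance _
  haveI := Fintype.ofFinite (Z.subgroupOf (pre L))
  have h := clifford_invariant (Z.subgroupOf (pre L)) hψ (isIrrCharacter_resTo Z hθ (le_pre L))
    (fun g => funext fun x =>
      congrFun (hinv (g : H)) ⟨((x : pre L) : H), Subgroup.mem_subgroupOf.1 x.2⟩)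
    (by rwa [classInner_resTo Z θ (le_pre L)])
  rw [classInner_resTo Z θ (le_pre L)] at h
  exact fun z => congrFun h ⟨⟨z, le_pre L z.2⟩, z.2⟩

include hχ hθ he hres in
/-- The characters over `θ` differ by linear characters of `L`. -/
theorem exists_tw [IsMulCommutative L] {ψ ψ' : pre L → ℂ} (hψ : IsIrrCharacter (pre L) ψ)
    (hψθ : classInner (fun z : Z => ψ ⟨z, le_pre L z.2⟩) θ ≠ 0)
    (hψ' : IsIrrCharacter (pre L) ψ')
    (hψ'θ : classInner (fun z : Z => ψ' ⟨z, le_pre L z.2⟩) θ ≠ 0) :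
    ∃ l : L →* ℂˣ, ψ' = tw ψ l := by
  classical
  letI : CommGroup L := { (inferInstance : Group L) with mul_comm := IsMulCommutative.is_comm.comm }
  haveI : Finite (L →* ℂˣ) := Nat.finite_of_card_ne_zero (by
    rw [card_monoidHom_units]; exact Nat.card_pos.ne')
  haveI := Fintype.ofFinite (L →* ℂˣ)
  set a := classInner (fun z : Z => ψ ⟨z, le_pre L z.2⟩) θ
  set b := classInner (fun z : Z => ψ' ⟨z, le_pre L z.2⟩) θ
  by_contra hne
  push Not at hne
  have hz : ∑ l : L →* ℂˣ, classInner (tw ψ l) ψ' = 0 :=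
    Finset.sum_eq_zero fun l _ =>
      classInner_irr_ne (isIrrCharacter_tw hψ l) hψ' (fun h => hne l h.symm)
  have hθn : ∑ z : Z, θ z * conj (θ z) = (Nat.card Z : ℂ) := by
    have h := classInner_irr_self hθ
    simp only [classInner] at h
    rwa [inv_mul_eq_one₀ card_cast_ne_zero, eq_comm] at h
  have hsplit : ∀ x : pre L, ∑ l : L →* ℂˣ, tw ψ l x * conj (ψ' x) =
      if (x : H) ∈ Z then (Fintype.card (L →* ℂˣ) : ℂ) * (ψ x * conj (ψ' x)) else 0 := by
    intro x
    simp only [tw, mul_assoc, ← Finset.mul_sum, ← Finset.sum_mul]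
    split_ifs with hx
    · rw [(proj_eq_one L).2 hx]
      simp
      ring
    · rw [sum_dual (fun h => hx ((proj_eq_one L).1 h))]
      simp
  have hsum : ∑ x : pre L, (if (x : H) ∈ Z then
        (Fintype.card (L →* ℂˣ) : ℂ) * (ψ x * conj (ψ' x)) else 0) =
      (Fintype.card (L →* ℂˣ) : ℂ) * (a * conj b * (Nat.card Z : ℂ)) := by
    rw [← Finset.sum_filter, ← hθn, Finset.mul_sum, Finset.mul_sum]
    refine Finset.sum_bij' (fun x hx => (⟨(x : H), (Finset.mem_filter.1 hx).2⟩ : Z))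
      (fun z _ => ⟨z, le_pre L z.2⟩) (fun x hx => Finset.mem_univ _)
      (fun z _ => Finset.mem_filter.2 ⟨Finset.mem_univ _, z.2⟩) (fun x hx => rfl) (fun z _ => rfl) ?_
    intro x hx
    have h1 := res_eq hχ hθ he hres hψ hψθ ⟨x, (Finset.mem_filter.1 hx).2⟩
    have h2 := res_eq hχ hθ he hres hψ' hψ'θ ⟨x, (Finset.mem_filter.1 hx).2⟩
    change ψ x = _ at h1
    change ψ' x = _ at h2
    rw [h1, h2, map_mul]
    ring
  simp only [classInner] at hz
  rw [← Finset.mul_sum, Finset.sum_comm, Finset.sum_congr rfl fun x _ => hsplit x, hsum] at hz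
  simp only [mul_eq_zero, inv_eq_zero, card_cast_ne_zero, false_or, map_eq_zero] at hz
  rcases hz with h | ((h | h) | h)
  · exact absurd (Nat.cast_eq_zero.1 h) Fintype.card_ne_zero
  · exact hψθ h
  · exact hψ'θ h
  · exact h

end Cfsg.Lib.Char.RamifiedSolvable
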